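import Cfsg.Agent.Mrg.Omega.NOThree.TF.ULam
import Cfsg.Agent.Mrg.Omega.NO3S.Pt.Path
import Cfsg.Agent.Mrg.Omega.NOThree.TF.Blk
import Cfsg.Agent.Mrg.Omega.ML.MinIrr
import Cfsg.Agent.Mrg.Omega.NO3S.Dual.Basic
import Cfsg.Agent.Mrg.Omega.NOThree.LL.Mover
import Cfsg.Agent.Mrg.Omega.NO3S.TwoOne.Three
import Cfsg.Agent.Mrg.Omega.NOThree.LL.InstOne
import Cfsg.Agent.Mrg.Omega.Exit.WeakClosed
import Cfsg.Agent.Mrg.Omega.NO3S.TwoOne.Main

-- merged: Cfsg.Agent.Mrg.Omega.NO3S.TwoFar.NoOv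
section

section


/-!
# TwoFar: (NO) from (ML)

* `noOver_of_mlk` : `MLK` and K-groups `C_G(p)` give `NoOver` for the point geometry of `Fr T V z`.
-/

set_option autoImplicit false
set_option linter.unusedSectionVars false

namespace Cfsg.Agent.Omega.NO3S.TwoFar

open Subgroup Cfsg Cfsg.Agent.ZN Cfsg.Agent.MinSimple.Geo Cfsg.Agent.Omega.CaseL Cfsg.Agent.Omega.NO3S.TwoOne
open Cfsg.Agent.Omega.NO3S.Pt
open Cfsg.Agent.Omega.NOThree (LemmaM.NoOver)
open Cfsg.Agent.Omega.NOThree.LL (four')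
open Cfsg.Agent.ZN.Block (conj_mem_of_normalizer conj_mem_of_normalizer' le_normalizer_of_forall
  mem_normalizer_of)

universe u

variable {G : Type u} [Group G] {T V : Subgroup G} {z : G}

/-- the lines through a point are conjugate under its centraliser -/
theorem exists_of_mem_lines' (h : Fr T V z) {g q : G} (hq : q ∈ cj g V) (hq1 : q ≠ 1) {L : Subgroup G}
    (hL : L ∈ lines V q) : ∃ c ∈ centralizer ({q} : Set G), L = cj c (cj g V) := by
  obtain ⟨k, -, -, hf⟩ := h.flag hq hq1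
  exact hf.ln.exists_of_mem_lines (by rwa [lines_cj])

/-- the data of (ML) for a flag -/
theorem gdat [Finite G] (h : Fr T V z) {g q : G} (hq : q ∈ cj g V) (hq1 : q ≠ 1) {A : Subgroup G}
    (hA : A ≤ o2 (centralizer ((cj g V : Subgroup G) : Set G))) (hsq : ∀ a ∈ A, a * a = 1) :
    ∃ T' w, ML.Final.GDat (centralizer ({q} : Set G)) (ws V q) (zpowers q) T'
      (o2 (centralizer ((cj g V : Subgroup G) : Set G))) A w := by
  obtain ⟨k, -, -, hf⟩ := h.flag hq hq1
  obtain ⟨x, hx, hx1, hxq⟩ := hf.exists_q hq hq1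
  have hcol : Col V q x := Col.of_mem hq hx hq1 hx1
  have hqc : Col V q q := hcol.left
  have hqq : q * q = 1 := h.pt_sq hqc
  have hmz : ∀ a : G, a ∈ zpowers q ↔ a = 1 ∨ a = q := fun a => mem_zpowers_iff_of_mul_self hqq
  obtain ⟨T', hT1, hT2, hT3, hT4, -, -⟩ := NOThree.TF.exists_T h hcol hxq
  have hcq : ∀ c ∈ centralizer ({q} : Set G), c * q = q * c := fun c hc => mem_centralizer_singleton_iff.1 hc
  have hY : centralizer ({q} : Set G) ≤ normalizer ((zpowers q : Subgroup G) : Set G) := by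
    refine le_normalizer_of_forall fun c hc a ha => ?_
    rw [hmz] at ha ⊢
    rcases ha with rfl | rfl
    · left; group
    · right
      rw [hcq c hc]; group
  have hQC : centralizer ((cj g V : Subgroup G) : Set G) ≤ centralizer ({q} : Set G) :=
    centralizer_le (Set.singleton_subset_iff.2 hq)
  have hxw : x ∈ ws V q := h.mem_ws_of_col hcol
  refine ⟨T', x, ⟨?_, hY, ?_, ?_, ?_, hxw, ?_, hT1, hT2, hT3, ?_, ?_, ?_, ?_, ?_, hA, ?_⟩⟩
  · exact centralizer_le_normalizer_ws V q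
  · rw [zpowers_le]; exact h.mem_ws_self hqc
  · exact (h.ws_le_cent hqc).trans hY
  · intro a ha
    rw [h.ws_sq hqc a ha]; exact one_mem _
  · -- generation
    intro U hxU hYU hCU
    have hqU : q ∈ U := hYU (mem_zpowers q)
    have hgU : cj g V ≤ U := by
      intro e he
      rcases four' h hq hq1 hx hx1 hxq he with e1 | e1 | e1 | e1
      · rw [e1]; exact one_mem _
      · rw [e1]; exact hqU
      · rw [e1]; exact hxU
      · rw [e1]; exact mul_mem hqU hxU
    refine ws_le fun L hL => ?_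
    obtain ⟨c, hc, rfl⟩ := exists_of_mem_lines' h hq hq1 hL
    intro a ha
    rw [mem_cj] at ha
    have e : a = c * (c⁻¹ * a * c) * c⁻¹ := by group
    rw [e]
    exact conj_mem_of_normalizer hCU hc (hgU ha)
  · intro t ht
    rw [hmz]
    rcases hT4 t ht with e | e
    · left; rw [e]; group
    · right; rw [e]; group
  · exact (o2_le _).trans hQC
  · exact isPGroup_o2 _
  · intro c hc
    have hc' := mem_centralizer_iff.1 (o2_le _ hc) x hx
    rw [hmz]
    left
    rw [← hc']; group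
  · -- normaliser
    intro c hc hcx b hb
    have hcN : ∀ e ∈ cj g V, c * e * c⁻¹ ∈ cj g V := by
      have key : ∀ e ∈ cj g V, c * e * c⁻¹ ∈ cj g V := by
        have hx' : c * x * c⁻¹ ∈ cj g V := by
          rw [hmz] at hcx
          rcases hcx with e1 | e1
          · have e2 : c * x * c⁻¹ = x := mul_inv_eq_one.1 e1
            rw [e2]; exact hx
          · have e2 : c * x * c⁻¹ = q * x := mul_inv_eq_iff_eq_mul.1 e1
            rw [e2]; exact mul_mem hq hx
        have hq' : c * q * c⁻¹ ∈ cj g V := by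
          rw [hcq c hc, mul_inv_cancel_right]; exact hq
        intro e he
        rcases four' h hq hq1 hx hx1 hxq he with e1 | e1 | e1 | e1
        · rw [e1]; simp
        · rw [e1]; exact hq'
        · rw [e1]; exact hx'
        · rw [e1]
          have e2 : c * (q * x) * c⁻¹ = (c * q * c⁻¹) * (c * x * c⁻¹) := by group
          rw [e2]; exact mul_mem hq' hx'
      exact key
    have hcN' : cj c (cj g V) = cj g V := by
      refine Subgroup.eq_of_le_of_card_ge (fun a ha => ?_) ?_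
      · rw [mem_cj] at ha
        have := hcN _ ha
        have e : c * (c⁻¹ * a * c) * c⁻¹ = a := by group
        rwa [e] at this
      · rw [card_cj, card_cj, card_cj]
    have hcC : c ∈ normalizer ((centralizer ((cj g V : Subgroup G) : Set G) : Subgroup G) : Set G) := by
      have hN : c ∈ normalizer ((cj g V : Subgroup G) : Set G) := by
        refine mem_normalizer_of hcN fun e he => ?_
        rw [← hcN', mem_cj] at he
        exact he
      have key : ∀ d ∈ normalizer ((cj g V : Subgroup G) : Set G), ∀ y ∈ centralizer ((cj g V : Subgroup G) : Set G),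
          d * y * d⁻¹ ∈ centralizer ((cj g V : Subgroup G) : Set G) := by
        intro d hd y hy
        rw [mem_centralizer_iff] at hy ⊢
        intro v hv
        have hv' : d⁻¹ * v * d ∈ cj g V := conj_mem_of_normalizer' le_rfl hd hv
        calc v * (d * y * d⁻¹) = d * ((d⁻¹ * v * d) * y) * d⁻¹ := by group
          _ = d * (y * (d⁻¹ * v * d)) * d⁻¹ := by rw [hy _ hv']
          _ = d * y * d⁻¹ * v := by group
      exact mem_normalizer_of (key c hN) fun y hy => by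
        have := key c⁻¹ (inv_mem hN) y hy
        rwa [inv_inv] at this
    exact conj_mem_of_normalizer (normalizer_le_normalizer_o2 _) hcC hb
  · intro a ha u hu
    have e : a * (a * u * a⁻¹) * a⁻¹ * u⁻¹ = (a * a) * u * (a * a)⁻¹ * u⁻¹ := by group
    rw [e, hsq a ha, hmz]
    left; group

/-- **(NO) from (ML)** -/
theorem noOver_of_mlk [Finite G] (hML : ML.Final.MLK.{u, u}) (h : Fr T V z)
    (hK : ∀ p, Col V p p → IsKGroup (centralizer ({p} : Set G))) :
    NOThree.LemmaM.NoOver (inc (V := V)) RR WS VL := by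
  intro q l hql A hA _ hsq _ _ N C hN hC
  obtain ⟨g, hg⟩ := l.2
  have hq : q.1 ∈ cj g V := hg ▸ hql
  have hA' : A ≤ o2 (centralizer ((cj g V : Subgroup G) : Set G)) := by rw [← hg]; exact hA
  obtain ⟨T', w, D⟩ := gdat h hq q.ne_one hA' hsq
  exact ML.Final.MLK.grp hML (hK q.1 q.2) D hN hC

end Cfsg.Agent.Omega.NO3S.TwoFar

end

section


/-!
# (NO) of the world `W0` (#21024 of helper56) from (ML)
-/

set_option autoImplicit false
set_option linter.unusedSectionVars false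

namespace Cfsg.Agent.Omega.NO3S.WZero

open Subgroup Cfsg Cfsg.Agent.ZN Cfsg.Agent.MinSimple.Geo Cfsg.Agent.Omega.CaseL Cfsg.Agent.Omega.NO3S.TwoOne
open Cfsg.Agent.Omega.NO3S.Pt
open Cfsg.Agent.Omega.ML.Final (MLK)

universe u

variable {G : Type u} [Group G] [Finite G] {T V : Subgroup G} {z : G}

theorem noOv_of_mlk (hML : MLK.{u, u}) (h : Fr T V z)
    (hK : ∀ p : G, Col V p p → IsKGroup (centralizer ({p} : Set G))) : NoOv V := by
  intro g q hq hq1 A hA hsq N C hN hC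
  obtain ⟨T', w, D⟩ := TwoFar.gdat h hq hq1 hA hsq
  exact MLK.grp hML (hK q (Col.of_mem hq hq hq1 hq1)) D hN hC

end Cfsg.Agent.Omega.NO3S.WZero

end

end

-- merged: Cfsg.Agent.Mrg.Omega.NOThree.LL.HasD
section

section


/-!
# THEOREM LL (helper975 #18157), (1.2): a goal pair has a mover with (D)

* `NoTwo V n` : the input COR (no critical pair of type I has `[W_p, W_q] = ⟨e⟩`, `e ∼ p`);
* `St.mover_or` : every `f ∈ W_q`, `f ∉ C(W_p)`, has a mover with (D), or `y 1 ∈ R` or `y 0 * y 1 ∈ R`;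
* `St.exists_D` : some mover has (D).
-/

set_option autoImplicit false
set_option linter.unusedSectionVars false

namespace Cfsg.Agent.Omega.NOThree.LL

open Subgroup Cfsg Cfsg.Agent.ZN Cfsg.Agent.MinSimple.Geo Cfsg.Agent.Omega.CaseL Cfsg.Agent.Omega.NO3S.TwoOne
open Cfsg.Agent.Omega.NO3S.Pt
open Cfsg.Agent.Omega.NO3S.Dual (nn mem_nn DW)
open Cfsg.Agent.Omega.NO3S.TwoMid (rr comm_mem_rr rr_comm)
open Cfsg.Agent.Omega.NOThree.TF (Md conj_mem_ws_of_mem exists_T exists_flag2)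
open Cfsg.Agent.Omega.NOThree.SecOne (Exact ee mem_ee)
open Cfsg.Agent.ZN.Block (conj_mem_of_normalizer conj_mem_of_normalizer' le_normalizer_of_forall
  mem_normalizer_of)

universe u v

variable {G : Type u} [Group G] {M : Type v} [AddCommGroup M]

/-- **COR** of (TL2): no critical pair of type I has `[W_p, W_q] = ⟨e⟩`, `e ∼ p`. -/
def NoTwo (V : Subgroup G) (n : ℕ) : Prop := ∀ p q e : G, Cr V n p q → p ∉ ws V q → q ∉ ws V p → Col V p e →
  (∀ a ∈ ws V p, ∀ b ∈ ws V q, a * b * a⁻¹ * b⁻¹ = 1 ∨ a * b * a⁻¹ * b⁻¹ = e) → False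

/-- `λ ∈ R̄` -/
def LamR (V : Subgroup G) (n : ℕ) (y : ℕ → G) : Prop :=
  y 1 ∈ rr V (y 0) (y n) ∨ y 0 * y 1 ∈ rr V (y 0) (y n)

namespace St

variable {T V : Subgroup G} {z : G} {m : ℕ} {y : ℕ → G} [DistribMulAction (centralizer ({y 0} : Set G)) M]
  {π : G → M} (s : St T V z m y π)
include s

/-- for every `f` : a mover with (D), or `λ ∈ R̄` -/
theorem mover_or [Finite G] {f : G} (hf : f ∈ ws V (y (m + 3))) (hfc : f ∉ centralizer (ws V (y 0) : Set G)) :
    (∃ x, Mv V (m + 3) y x f ∧ DD V (y 0) x f) ∨ LamR V (m + 3) y := by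
  obtain ⟨h, i, hmv⟩ := s.exists_mover (f := ⟨f, s.wq_le hf⟩) hf hfc
  by_cases hD : DD V (y 0) ((h : G) * y 1 * (h : G)⁻¹) f
  · exact Or.inl ⟨_, hmv, hD⟩
  right
  obtain ⟨h1, -⟩ := s.one_one hf i rfl hmv hD
  set x := (h : G) * y 1 * (h : G)⁻¹ with hx
  have hxw : x ∈ ws V (y 0) := s.fr.mem_ws_of_col hmv.col
  have hxw' : f * x * f⁻¹ ∈ ws V (y 0) := conj_mem_ws_of_mem (s.wq_le hf) hxw
  have hxi : x⁻¹ = x := inv_eq_of_mul_eq_one_right (s.fr.pt_sq hmv.col.right)
  have h2 : π (f * x * f⁻¹ * x⁻¹) = π (y 1) := by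
    rw [hxi, s.md.map_mul _ hxw' _ hxw]
    have e : π (f * x * f⁻¹) = (⟨f, s.wq_le hf⟩ : centralizer ({y 0} : Set G)) • π x :=
      s.md.smul ⟨f, s.wq_le hf⟩ x hxw
    rw [e, h1, add_comm, ← add_assoc, s.two, zero_add]
  have h3 : f * x * f⁻¹ * x⁻¹ ∈ rr V (y 0) (y (m + 3)) := by
    have e : f * x * f⁻¹ * x⁻¹ = (x * f * x⁻¹ * f⁻¹)⁻¹ := by group
    rw [e]
    exact inv_mem (comm_mem_rr hxw hf)
  rcases (s.md.eq_iff s.fr s.hp (mul_mem hxw' (inv_mem hxw)) s.p1_mem).1 h2 with e | e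
  · left; rwa [e] at h3
  · right; rwa [e] at h3

/-- **(1.2)** -/
theorem exists_D [Finite G] (hNT : NoTwo V (m + 3)) : ∃ x f, Mv V (m + 3) y x f ∧ DD V (y 0) x f := by
  classical
  by_contra hcon
  push Not at hcon
  have two := s.two
  obtain ⟨l, hp, hq, hp1, hq1⟩ := s.gg.col0
  obtain ⟨U, hU⟩ := TF.Md.exists_U s.fr s.md hp hp1
  have hlU : π (y 1) ∈ U := TF.Md.lam_mem_U s.fr s.md hp hp1 hq hU
  have hUN : ∀ v ∈ U, v ∈ NB V (y 0) π → v = 0 := fun v hv hn => inf_NB s.fr s.md hp hp1 hU hv hn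
  have hl0 : π (y 1) ≠ 0 := s.md.pt_ne_zero s.fr s.gg.col0 s.ne1
  set Q := AddSubgroup.closure {π (y 1)} ⊔ NB V (y 0) π with hQ
  let ML : AddSubgroup M :=
    { carrier := {v | ∀ g : centralizer ({y 0} : Set G), (g : G) ∈ centralizer (ws V (y 1) : Set G) → g • v - v ∈ Q}
      zero_mem' := fun g _ => by rw [smul_zero, sub_zero]; exact zero_mem _
      add_mem' := fun {a b} ha hb g hg => by
        have e : g • (a + b) - (a + b) = (g • a - a) + (g • b - b) := by rw [smul_add]; abel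
        rw [e]
        exact add_mem (ha g hg) (hb g hg)
      neg_mem' := fun {a} ha g hg => by
        have e : g • (-a) - (-a) = -(g • a - a) := by rw [smul_neg]; abel
        rw [e]
        exact neg_mem (ha g hg) }
  set X := pre s.md ML with hX
  set E := ee V (y 0) (y (m + 3)) with hE
  set E' := ee V (y (m + 3)) (y 0) with hE'
  have hex := s.gg.exact s.fr s.no
  have hXw : X ≤ ws V (y 0) := fun a ha => ha.1
  have hEw : E ≤ ws V (y 0) := fun a ha => (mem_ee.1 ha).1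
  have hE'w : E' ≤ ws V (y (m + 3)) := fun a ha => (mem_ee.1 ha).1
  let lft : ws V (y (m + 3)) → centralizer ({y 0} : Set G) := fun b => ⟨b, s.wq_le b.2⟩
  -- `δ ∈ {0, λ}`
  have hδ : ∀ (a : G) (b : ws V (y (m + 3))), a ∈ X → lft b • π a - π a = 0 ∨ lft b • π a - π a = π (y 1) := by
    intro a b ha
    have hbc : (lft b : G) ∈ centralizer (ws V (y 1) : Set G) := by
      rw [mem_centralizer_iff]
      exact fun w hw => s.com1 w hw _ b.2
    have h1 : lft b • π a - π a ∈ Q := ha.2 (lft b) hbc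
    have hbw : (b : G) * a * (b : G)⁻¹ ∈ ws V (y 0) := conj_mem_ws_of_mem (lft b).2 ha.1
    have h2 : lft b • π a - π a ∈ U := by
      rw [hU]
      refine ⟨(b : G) * a * (b : G)⁻¹ * a, s.fr.mem_ii_cj hp hp1 hq hq1 s.ne1 (mul_mem hbw ha.1) ?_, ?_⟩
      · have h3 := inv_mem (s.gg.le a ha.1 b b.2)
        have hai : a⁻¹ = a := inv_eq_of_mul_eq_one_right (s.fr.ws_sq s.hp a ha.1)
        have e : (a * b * a⁻¹ * (b : G)⁻¹)⁻¹ = (b : G) * a * (b : G)⁻¹ * a⁻¹ := by group
        rw [e, hai] at h3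
        exact h3
      · rw [s.md.map_mul _ hbw _ ha.1, s.sub_eq]
        congr 1
        exact s.md.smul (lft b) a ha.1
    have h3 : lft b • π a - π a ∈ AddSubgroup.closure {π (y 1), 0} ⊔ NB V (y 0) π := by
      refine (sup_le_sup_right (AddSubgroup.closure_mono ?_) _) h1
      rintro v rfl
      exact Or.inl rfl
    obtain ⟨w, hw, e | e | e | e⟩ := mem_sup4 two h3
    · left
      rw [e] at h2 ⊢
      exact hUN w h2 hw
    · right
      have h4 : w ∈ U := by
        have : w = (π (y 1) + w) - π (y 1) := by abel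
        rw [this, ← e]
        exact sub_mem h2 hlU
      rw [e, hUN w h4 hw, add_zero]
    · left
      rw [zero_add] at e
      rw [e] at h2 ⊢
      exact hUN w h2 hw
    · right
      rw [add_zero] at e
      have h4 : w ∈ U := by
        have : w = (π (y 1) + w) - π (y 1) := by abel
        rw [this, ← e]
        exact sub_mem h2 hlU
      rw [e, hUN w h4 hw, add_zero]
  have hfl : ∀ b : ws V (y (m + 3)), lft b • π (y 1) = π (y 1) := fun b => s.fix_lam b.2
  have hmulsgn : ∀ α β : M, (α = 0 ∨ α = π (y 1)) → (β = 0 ∨ β = π (y 1)) →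
      (if α + β = 0 then (1 : ℤˣ) else -1) = (if α = 0 then (1 : ℤˣ) else -1) * (if β = 0 then (1 : ℤˣ) else -1) := by
    rintro α β (rfl | rfl) (rfl | rfl)
    · simp
    · simp
    · simp
    · rw [if_pos (two _), if_neg hl0]
      rfl
  have h1 := pairing_units (A := X) (B := ws V (y (m + 3)))
    (fun a b => if lft b • π (a : G) - π (a : G) = 0 then (1 : ℤˣ) else -1)
    (fun a a' b => by
      rw [← hmulsgn _ _ (hδ a b a.2) (hδ a' b a'.2)]
      congr 2
      change lft b • π ((a : G) * a') - π ((a : G) * a') = _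
      rw [s.md.map_mul _ a.2.1 _ a'.2.1, smul_add]
      abel)
    (fun a b b' => by
      rw [← hmulsgn _ _ (hδ a b a.2) (hδ a b' a.2)]
      congr 2
      have e : lft (b * b') = lft b * lft b' := rfl
      rw [e, mul_smul]
      have e1 : lft b • (lft b' • π (a : G) - π (a : G)) = lft b' • π (a : G) - π (a : G) := by
        rcases hδ a b' a.2 with e | e
        · rw [e, smul_zero]
        · rw [e, hfl]
      have e2 : lft b • lft b' • π (a : G) - π (a : G) =
          lft b • (lft b' • π (a : G) - π (a : G)) + (lft b • π (a : G) - π (a : G)) := by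
        rw [smul_sub]; abel
      rw [e2, e1, add_comm])
  -- the left kernel
  have h2 : Nat.card (X ⊓ E : Subgroup G) ≤
      Nat.card {a : X // ∀ b, (if lft b • π (a : G) - π (a : G) = 0 then (1 : ℤˣ) else -1) = 1} := by
    refine Nat.card_le_card_of_injective
      (fun a : (X ⊓ E : Subgroup G) => ⟨⟨a.1, a.2.1⟩, fun b => ?_⟩) ?_
    · refine if_pos ?_
      have h3 := (mem_ee.1 a.2.2).2 b b.2
      change lft b • π (a : G) - π (a : G) = 0
      rw [← s.md.smul (lft b) a a.2.1.1, sub_eq_zero]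
      congr 1
      exact NO3S.Dual.conj_eq_of_comm h3.symm
    · intro a a' e
      exact Subtype.ext (congrArg (fun t => (t.1 : G)) e)
  -- the right kernel
  have h3 : Nat.card {b : ws V (y (m + 3)) // ∀ a : X,
      (if lft b • π (a : G) - π (a : G) = 0 then (1 : ℤˣ) else -1) = 1} ≤ Nat.card E' := by
    refine Nat.card_le_card_of_injective (fun b => ⟨b.1, ?_⟩) ?_
    · by_contra hb
      have hbc : ((lft b.1 : centralizer ({y 0} : Set G)) : G) ∉ centralizer (ws V (y 0) : Set G) := by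
        intro h4
        apply hb
        rw [hE', mem_ee]
        exact ⟨b.1.2, fun a ha => (mem_centralizer_iff.1 h4 a ha).symm⟩
      obtain ⟨h, i, hmv⟩ := s.exists_mover (f := lft b.1) b.1.2 hbc
      obtain ⟨h5, h6⟩ := s.one_one b.1.2 i rfl hmv (hcon _ _ hmv)
      have h7 : ((h : G) * y 1 * (h : G)⁻¹) ∈ X := ⟨s.fr.mem_ws_of_col hmv.col, h6⟩
      have h8 := b.2 ⟨_, h7⟩
      have h9 : ¬ (lft b.1 • π ((h : G) * y 1 * (h : G)⁻¹) - π ((h : G) * y 1 * (h : G)⁻¹) = 0) := by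
        rw [h5, add_sub_cancel_left]
        exact hl0
      rw [if_neg h9] at h8
      exact absurd h8 (by decide)
    · intro b b' e
      have e1 : ((b.1 : ws V (y (m + 3))) : G) = b'.1 := congrArg (fun t : E' => (t : G)) e
      exact Subtype.ext (Subtype.ext e1)
  -- the count
  have hcX : Nat.card (X ⊓ E : Subgroup G) * E.relIndex X = Nat.card X := by
    rw [← inf_relIndex_left]
    exact NO3S.Dual.card_mul_relIndex_of_le inf_le_left
  have hcW : Nat.card E' * E'.relIndex (ws V (y (m + 3))) = Nat.card (ws V (y (m + 3))) :=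
    NO3S.Dual.card_mul_relIndex_of_le hE'w
  have hr : E.relIndex (ws V (y 0)) ≤ E.relIndex X := by
    rw [hE, hex.card, ← hE']
    have h4 : Nat.card (X ⊓ E : Subgroup G) * Nat.card E' * E'.relIndex (ws V (y (m + 3))) ≤
        Nat.card (X ⊓ E : Subgroup G) * Nat.card E' * E.relIndex X := by
      calc Nat.card (X ⊓ E : Subgroup G) * Nat.card E' * E'.relIndex (ws V (y (m + 3))) =
          Nat.card (X ⊓ E : Subgroup G) * Nat.card (ws V (y (m + 3))) := by rw [mul_assoc, hcW]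
        _ ≤ _ * Nat.card (ws V (y (m + 3))) := Nat.mul_le_mul_right _ h2
        _ = Nat.card X * _ := h1
        _ ≤ Nat.card X * Nat.card E' := Nat.mul_le_mul_left _ h3
        _ = Nat.card (X ⊓ E : Subgroup G) * Nat.card E' * E.relIndex X := by rw [← hcX]; ring
    exact Nat.le_of_mul_le_mul_left h4 (Nat.mul_pos Nat.card_pos Nat.card_pos)
  have hXE : ws V (y 0) ≤ X ⊔ E := by
    rw [← relIndex_eq_one]
    have e1 := relIndex_mul_relIndex E (X ⊔ E) (ws V (y 0)) le_sup_right (sup_le hXw hEw)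
    have e2 : E.relIndex X ≤ E.relIndex (X ⊔ E) :=
      relIndex_le_of_le_right le_sup_left index_ne_zero_of_finite
    have e3 : E.relIndex (X ⊔ E) ≠ 0 := index_ne_zero_of_finite
    have e4 : (X ⊔ E).relIndex (ws V (y 0)) ≠ 0 := index_ne_zero_of_finite
    have e5 : E.relIndex (X ⊔ E) * (X ⊔ E).relIndex (ws V (y 0)) ≤ E.relIndex (X ⊔ E) * 1 := by
      rw [e1, mul_one]; omega
    have e6 := Nat.le_of_mul_le_mul_left e5 (Nat.pos_of_ne_zero e3)
    omega
  -- `[W_p, W_q] ≤ ⟨e⟩`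
  have hall : ∀ a ∈ ws V (y 0), ∀ b : ws V (y (m + 3)),
      lft b • π a - π a = 0 ∨ lft b • π a - π a = π (y 1) := by
    intro a ha b
    obtain ⟨c, hc, e, he, rfl⟩ := NO3S.Dual.mem_sup_of_comm (s.fr.ws_comm s.hp) hXw hEw (hXE ha)
    have h4 : lft b • π e - π e = 0 := by
      rw [← s.md.smul (lft b) e (hEw he), sub_eq_zero]
      congr 1
      exact NO3S.Dual.conj_eq_of_comm ((mem_ee.1 he).2 b b.2).symm
    have h5 : lft b • π (c * e) - π (c * e) = lft b • π c - π c := by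
      rw [s.md.map_mul c hc.1 e (hEw he), smul_add]
      calc lft b • π c + lft b • π e - (π c + π e) = (lft b • π c - π c) + (lft b • π e - π e) := by abel
        _ = lft b • π c - π c := by rw [h4, add_zero]
    rw [h5]
    exact hδ c b hc
  have hcomm : ∀ a ∈ ws V (y 0), ∀ b ∈ ws V (y (m + 3)),
      a * b * a⁻¹ * b⁻¹ = 1 ∨ (a * b * a⁻¹ * b⁻¹ = y 1 ∧ y 1 ∈ ws V (y (m + 3))) ∨
        (a * b * a⁻¹ * b⁻¹ = y 0 * y 1 ∧ y 0 * y 1 ∈ ws V (y (m + 3))) := by
    intro a ha b hb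
    have h4 : a * b * a⁻¹ * b⁻¹ ∈ ws V (y 0) := s.gg.cr.comm_mem_left s.fr ha hb
    have h5 : a * b * a⁻¹ * b⁻¹ ∈ ws V (y (m + 3)) := s.gg.cr.comm_mem_right s.fr ha hb
    have hbw : b * a * b⁻¹ ∈ ws V (y 0) := conj_mem_ws_of_mem (s.wq_le hb) ha
    have e : a * b * a⁻¹ * b⁻¹ = b * a * b⁻¹ * a := by
      have e1 : (a * b * a⁻¹ * b⁻¹)⁻¹ = a * b * a⁻¹ * b⁻¹ :=
        inv_eq_of_mul_eq_one_right (s.fr.ws_sq s.hp _ h4)
      have hai : a⁻¹ = a := inv_eq_of_mul_eq_one_right (s.fr.ws_sq s.hp a ha)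
      rw [← e1]
      calc (a * b * a⁻¹ * b⁻¹)⁻¹ = b * a * b⁻¹ * a⁻¹ := by group
        _ = b * a * b⁻¹ * a := by rw [hai]
    have h6 : π (a * b * a⁻¹ * b⁻¹) = lft ⟨b, hb⟩ • π a - π a := by
      rw [e, s.md.map_mul _ hbw _ ha, s.sub_eq]
      congr 1
      exact s.md.smul (lft ⟨b, hb⟩) a ha
    rcases hall a ha ⟨b, hb⟩ with h7 | h7
    · rw [h7] at h6
      rcases (s.md.ker _ h4).1 h6 with e | e
      · exact Or.inl e
      · exact absurd (e ▸ h5) s.gg.not_mem
    · rw [h7] at h6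
      right
      rcases (s.md.eq_iff s.fr s.hp h4 s.p1_mem).1 h6 with e | e
      · left; exact ⟨e, e ▸ h5⟩
      · right; exact ⟨e, e ▸ h5⟩
  by_cases hy : y 1 ∈ ws V (y (m + 3))
  · refine hNT _ _ (y 1) s.gg.cr s.gg.not_mem s.gg.not_mem' s.gg.col0 fun a ha b hb => ?_
    rcases hcomm a ha b hb with e | e | e
    · exact Or.inl e
    · exact Or.inr e.1
    · exfalso
      apply s.gg.not_mem
      have := mul_mem e.2 hy
      rwa [mul_assoc, s.fr.pt_sq s.gg.col0.right, mul_one] at this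
  · have hne : y 0 * y 1 ≠ 1 := by
      intro e
      apply s.ne1
      have e1 := s.fr.pt_sq s.hp
      calc y 1 = y 0 * y 0 * y 1 := by rw [e1, one_mul]
        _ = y 0 := by rw [mul_assoc, e, mul_one]
    refine hNT _ _ (y 0 * y 1) s.gg.cr s.gg.not_mem s.gg.not_mem'
      (Col.of_mem hp (mul_mem hp hq) hp1 hne) fun a ha b hb => ?_
    rcases hcomm a ha b hb with e | e | e
    · exact Or.inl e
    · exact absurd e.2 hy
    · exact Or.inr e.1

end St

end Cfsg.Agent.Omega.NOThree.LL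

end

section


/-!
# THEOREM LL (helper975 #18157), section 2: terminal pairs and children

* `BC V g p E` : the elements of `C(p)` trivial on `I_l/p`, `W_p/I_l` and `E` (mod `p`), `l = cj g V`;
* `NoB V` : (NO) for these groups; `Ctx` : the inputs (NO), `NoB`, `NoTwo`;
* `Ctx.mem_kq` : `(x, f)` a mover with (D), (β): `C_B(f̄) = 1`;
* `Ctx.lamR_of_term`, `Ctx.term` (2.1): a terminal pair has `p y₁ ∈ R`, `y₁ ∉ R`; `Ctx.exists_not_term`;
* `Ctx.not_term_child` (2.2), `Ctx.exists_gr` (2.3): if there is a goal pair there is a grandchild.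
-/

set_option autoImplicit false
set_option linter.unusedSectionVars false

namespace Cfsg.Agent.Omega.NOThree.LL

open Subgroup Cfsg Cfsg.Agent.ZN Cfsg.Agent.MinSimple.Geo Cfsg.Agent.Omega.CaseL Cfsg.Agent.Omega.NO3S.TwoOne
open Cfsg.Agent.Omega.NO3S.Pt
open Cfsg.Agent.Omega.NO3S.TwoMid (rr comm_mem_rr rr_comm)
open Cfsg.Agent.Omega.NOThree.TF (Md conj_mem_ws_of_mem exists_flag2 MM pim md_MM)
open Cfsg.Agent.Omega.NOThree.SecOne (Exact ee mem_ee Goal comm_of_comm_eq_one comm_eq_one comm_inv_eq mem_kq_of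
  cent_zpowers lemM)
open Cfsg.Agent.Omega.NOThree.LemmaM (NoOver)
open Cfsg.Agent.ZN.Block (conj_mem_of_normalizer conj_mem_of_normalizer' le_normalizer_of_forall
  mem_normalizer_of)

universe u

variable {G : Type u} [Group G] {T V : Subgroup G} {z : G} {m : ℕ} {y : ℕ → G} {x f : G}

/-! ### tools -/

theorem exists_mul_of_mem_sup' {A B : Subgroup G} (hn : ∀ a ∈ A, ∀ b ∈ B, a * b * a⁻¹ ∈ B) {x : G}
    (hx : x ∈ A ⊔ B) : ∃ a ∈ A, ∃ b ∈ B, x = a * b := by
  let D : Subgroup G :=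
    { carrier := {x | ∃ a ∈ A, ∃ b ∈ B, x = a * b}
      mul_mem' := by
        rintro _ _ ⟨a, ha, b, hb, rfl⟩ ⟨a', ha', b', hb', rfl⟩
        refine ⟨a * a', mul_mem ha ha', a'⁻¹ * b * a'⁻¹⁻¹ * b', mul_mem (hn _ (inv_mem ha') b hb) hb', ?_⟩
        group
      one_mem' := ⟨1, one_mem _, 1, one_mem _, by simp⟩
      inv_mem' := by
        rintro _ ⟨a, ha, b, hb, rfl⟩
        refine ⟨a⁻¹, inv_mem ha, a * b⁻¹ * a⁻¹, hn a ha _ (inv_mem hb), ?_⟩
        group }
  have h1 : A ⊔ B ≤ D := sup_le (fun a ha => ⟨a, ha, 1, one_mem _, by simp⟩)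
    fun b hb => ⟨1, one_mem _, b, hb, by simp⟩
  exact h1 hx

theorem conj_zpow_mem {b p c : G} (hb : b * p = p * b) (hc : c ∈ zpowers p) : b * c * b⁻¹ = c := by
  obtain ⟨n, rfl⟩ := mem_zpowers_iff.1 hc
  rw [((show Commute b p from hb).zpow_right n).eq, mul_inv_cancel_right]

theorem conj_mem_zpowers {c p p' w : G} (e : c * p * c⁻¹ = p') (hw : w ∈ zpowers p) : c * w * c⁻¹ ∈ zpowers p' := by
  obtain ⟨n, rfl⟩ := mem_zpowers_iff.1 hw
  rw [← e]
  exact mem_zpowers_iff.2 ⟨n, conj_zpow⟩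

/-- `{b ∈ C(p) : [b, I_l] ≤ ⟨p⟩, [b, W_p] ≤ I_l, [b, E] ≤ ⟨p⟩}` -/
def BC (V : Subgroup G) (g p : G) (E : Subgroup G) (hp : p ∈ ii (cj g V)) : Subgroup G where
  carrier := {b | b * p = p * b ∧ (∀ u ∈ ii (cj g V), b * u * b⁻¹ * u⁻¹ ∈ zpowers p) ∧
    (∀ u ∈ ws V p, b * u * b⁻¹ * u⁻¹ ∈ ii (cj g V)) ∧ ∀ u ∈ E, b * u * b⁻¹ * u⁻¹ ∈ zpowers p}
  one_mem' := ⟨by simp, fun u _ => by simp, fun u _ => by simp, fun u _ => by simp⟩
  mul_mem' := by
    rintro a b ⟨ha, ha1, ha2, ha3⟩ ⟨hb, hb1, hb2, hb3⟩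
    have key : ∀ u, b * u * b⁻¹ * u⁻¹ ∈ zpowers p → a * u * a⁻¹ * u⁻¹ ∈ zpowers p →
        a * b * u * (a * b)⁻¹ * u⁻¹ ∈ zpowers p := by
      intro u h1 h2
      have e : a * b * u * (a * b)⁻¹ * u⁻¹ = a * (b * u * b⁻¹ * u⁻¹) * a⁻¹ * (a * u * a⁻¹ * u⁻¹) := by group
      rw [e, conj_zpow_mem ha h1]
      exact mul_mem h1 h2
    refine ⟨?_, fun u hu => key u (hb1 u hu) (ha1 u hu), fun u hu => ?_, fun u hu => key u (hb3 u hu) (ha3 u hu)⟩
    · rw [mul_assoc, hb, ← mul_assoc, ha, mul_assoc]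
    · have e : a * b * u * (a * b)⁻¹ * u⁻¹ = (a * (b * u * b⁻¹ * u⁻¹) * a⁻¹ * (b * u * b⁻¹ * u⁻¹)⁻¹) *
          (b * u * b⁻¹ * u⁻¹) * (a * u * a⁻¹ * u⁻¹) := by group
      rw [e]
      exact mul_mem (mul_mem ((zpowers_le.2 hp) (ha1 _ (hb2 u hu))) (hb2 u hu)) (ha2 u hu)
  inv_mem' := by
    rintro a ⟨ha, ha1, ha2, ha3⟩
    have ha' : a⁻¹ * p = p * a⁻¹ := by
      rw [inv_mul_eq_iff_eq_mul, ← mul_assoc, ha, mul_inv_cancel_right]
    have e : ∀ u, a⁻¹ * u * a⁻¹⁻¹ * u⁻¹ = a⁻¹ * (a * u * a⁻¹ * u⁻¹)⁻¹ * a⁻¹⁻¹ := fun u => by group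
    have key : ∀ u, a * u * a⁻¹ * u⁻¹ ∈ zpowers p → a⁻¹ * u * a⁻¹⁻¹ * u⁻¹ ∈ zpowers p := by
      intro u h1
      rw [e, conj_zpow_mem ha' (inv_mem h1)]
      exact inv_mem h1
    refine ⟨ha', fun u hu => key u (ha1 u hu), fun u hu => ?_, fun u hu => key u (ha3 u hu)⟩
    rw [e]
    have h1 := inv_mem (ha2 u hu)
    have h2 := zpowers_le.2 hp (key _ (ha1 _ h1))
    have h3 := mul_mem h2 h1
    rwa [inv_mul_cancel_right] at h3

variable {g p q r : G} {E : Subgroup G}

theorem mem_BC {hp : p ∈ ii (cj g V)} {b : G} : b ∈ BC V g p E hp ↔ b * p = p * b ∧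
    (∀ u ∈ ii (cj g V), b * u * b⁻¹ * u⁻¹ ∈ zpowers p) ∧
    (∀ u ∈ ws V p, b * u * b⁻¹ * u⁻¹ ∈ ii (cj g V)) ∧ ∀ u ∈ E, b * u * b⁻¹ * u⁻¹ ∈ zpowers p := Iff.rfl

/-- **(NO) for subgroups of `B_λ`** -/
def NoB (V : Subgroup G) : Prop := ∀ g p : G, p ∈ cj g V → p ≠ 1 → ∀ B : Subgroup G, (∀ b ∈ B, b * p = p * b) →
  (∀ b ∈ B, ∀ u ∈ ii (cj g V), b * u * b⁻¹ * u⁻¹ ∈ zpowers p) →
  (∀ b ∈ B, ∀ u ∈ ws V p, b * u * b⁻¹ * u⁻¹ ∈ ii (cj g V)) →
  ∀ N C : Subgroup G, (∀ b, b ∈ N ↔ b ∈ B ∧ ∀ u ∈ ws V p, b * u * b⁻¹ * u⁻¹ ∈ zpowers p) →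
    (∀ u, u ∈ C ↔ u ∈ ws V p ∧ ∀ b ∈ B, b * u * b⁻¹ * u⁻¹ ∈ zpowers p) → N.relIndex B ≤ C.relIndex (ws V p)

/-- conjugation of `BC` -/
theorem BC_conj {g' p' c : G} {E' : Subgroup G} {hp : p ∈ ii (cj g V)} {hp' : p' ∈ ii (cj g' V)}
    (e : c * p * c⁻¹ = p') (hl : cj c (cj g V) = cj g' V) (hE : ∀ u ∈ E', c⁻¹ * u * c ∈ E) {b : G}
    (hb : b ∈ BC V g p E hp) : c * b * c⁻¹ ∈ BC V g' p' E' hp' := by
  obtain ⟨h1, h2, h3, h4⟩ := hb
  have hii : ∀ u, u ∈ ii (cj g' V) ↔ c⁻¹ * u * c ∈ ii (cj g V) := by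
    intro u
    rw [← hl, ← NO3S.TwoFar.cj_ii, mem_cj]
  have hws : ∀ u, u ∈ ws V p' ↔ c⁻¹ * u * c ∈ ws V p := by
    intro u
    rw [← e, ← cj_ws, mem_cj]
  have key : ∀ u, c * b * c⁻¹ * u * (c * b * c⁻¹)⁻¹ * u⁻¹ =
      c * (b * (c⁻¹ * u * c) * b⁻¹ * (c⁻¹ * u * c)⁻¹) * c⁻¹ := fun u => by group
  refine ⟨?_, fun u hu => ?_, fun u hu => ?_, fun u hu => ?_⟩
  · rw [← e]
    calc c * b * c⁻¹ * (c * p * c⁻¹) = c * (b * p) * c⁻¹ := by group
      _ = c * p * c⁻¹ * (c * b * c⁻¹) := by rw [h1]; group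
  · rw [key]
    exact conj_mem_zpowers e (h2 _ ((hii u).1 hu))
  · rw [key, hii]
    have e1 : ∀ w : G, c⁻¹ * (c * w * c⁻¹) * c = w := fun w => by group
    rw [e1]
    exact h3 _ ((hws u).1 hu)
  · rw [key]
    exact conj_mem_zpowers e (h4 _ (hE u hu))

/-- `NoB` for `BC` -/
theorem NoB.le [Finite G] (h : Fr T V z) (hNB : NoB V) (hp : p ∈ cj g V) (hp1 : p ≠ 1) (hpi : p ∈ ii (cj g V))
    {E' : Subgroup G} (hE' : ∀ u ∈ E', u ∈ ws V p ∧ ∀ b ∈ BC V g p E hpi, b * u * b⁻¹ * u⁻¹ ∈ zpowers p) :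
    (BC V g p E hpi ⊓ kq V p).relIndex (BC V g p E hpi) ≤ E'.relIndex (ws V p) := by
  have hpc : Col V p p := Col.of_mem hp hp hp1 hp1
  set B := BC V g p E hpi with hB
  have hpw : ∀ a ∈ ws V p, a * p = p * a := fun a ha => h.ws_comm hpc a ha p (h.mem_ws_self hpc)
  have hC1 := cent_zpowers hpw
  have hC : ∀ u, u ∈ LemmaM.cm (ws V p) B (zpowers p) hC1 ↔
      u ∈ ws V p ∧ ∀ b ∈ B, b * u * b⁻¹ * u⁻¹ ∈ zpowers p := by
    intro u
    rw [LemmaM.mem_cm]
    refine and_congr_right fun hu => forall₂_congr fun a ha => ?_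
    rw [comm_inv_eq u a, inv_mem_iff]
  have h1 := hNB g p hp hp1 B (fun b hb => hb.1) (fun b hb => hb.2.1) (fun b hb => hb.2.2.1) (B ⊓ kq V p) _
    (fun b => ?_) hC
  · refine h1.trans (relIndex_le_of_le_left (fun u hu => ?_) index_ne_zero_of_finite)
    exact (hC u).2 (hE' u hu)
  · rw [mem_inf]
    refine and_congr_right fun hb => ⟨fun hk => hk.2.1, fun hk => mem_kq_of ?_ hk⟩
    rw [mem_centralizer_singleton_iff]
    exact hb.1

variable (T V z m) in
/-- the inputs -/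
structure Ctx : Prop where
  fr : Fr T V z
  no : NoOver (NO3S.TwoFar.inc (V := V)) NO3S.TwoFar.RR NO3S.TwoFar.WS NO3S.TwoFar.VL
  nb : NoB V
  nt : NoTwo V (m + 3)

namespace Ctx

variable (c : Ctx T V z m) (gg : GG V (m + 3) y)
include c gg

theorem st [Finite G] : St T V z m y (pim V (y 0)) := ⟨c.fr, c.no, gg, md_MM c.fr gg.col0.left⟩

/-- `C_B(f̄) = 1` for a mover `(x, f)` with (D) and (β) -/
theorem mem_kq [Finite G] (hmv : Mv V (m + 3) y x f) (hD : DD V (y 0) x f) (hcom : Com V x (y (m + 2)))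
    (hr : y (m + 2) ∈ cj g V) (hq : y (m + 3) ∈ cj g V) (hqi : y (m + 3) ∈ ii (cj g V)) {b : G}
    (hb : b ∈ BC V g (y (m + 3)) ⊥ hqi) (hbf : b * f * b⁻¹ * f⁻¹ ∈ zpowers (y (m + 3))) :
    b ∈ kq V (y (m + 3)) := by
  have h := c.fr
  set p := y 0 with hpdef
  set q := y (m + 3) with hqdef
  set r := y (m + 2) with hrdef
  have hrq : Col V r q := gg.path (m + 2) (show m + 2 < m + 3 by omega)
  have hqc : Col V q q := hrq.right
  have hr1 : r ≠ 1 := hrq.ne_one
  have hq1 : q ≠ 1 := hqc.ne_one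
  have hrqne : r ≠ q := gg.ne_succ (i := m + 2) (by omega)
  have hpth : Pth V (m + 3 - 1) p r := by
    have := gg.pth (i := 0) (j := m + 2) (by omega) (by omega) (by omega)
    exact this
  obtain ⟨h2t, halt⟩ := lemM h (by omega) c.no gg.cr hpth hrq hmv.col.symm hmv.mem hmv.mv hD
  obtain ⟨-, -, h3⟩ := halt.resolve_left fun hg => hg.crit.ne hcom
  have hff : f * f = 1 := h.ws_sq hqc f hmv.mem
  set D := BC V g q (zpowers f) hqi with hDdef
  set B := BC V g q ⊥ hqi with hBdef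
  have hDB : D ≤ B := fun a ha => ⟨ha.1, ha.2.1, ha.2.2.1, fun u hu => by
    rw [mem_bot] at hu
    rw [hu]
    simp⟩
  have hmemD : ∀ a ∈ B, a * f * a⁻¹ * f⁻¹ ∈ zpowers q → a ∈ D := by
    intro a ha haf
    refine ⟨ha.1, ha.2.1, ha.2.2.1, fun u hu => ?_⟩
    rcases (mem_zpowers_iff_of_mul_self hff).1 hu with rfl | rfl
    · simp
    · exact haf
  -- `W_x ≤ B`
  have hxr : ∀ a ∈ ws V x, ∀ w ∈ ws V r, a * w = w * a := hcom
  have hqr : q ∈ ws V r := h.mem_ws_of_col hrq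
  have hxB : ws V x ≤ B := by
    intro a ha
    have haq : a * q = q * a := hxr a ha q hqr
    refine ⟨haq, fun u hu => ?_, fun u hu => ?_, fun u hu => ?_⟩
    · rw [comm_eq_one (hxr a ha u (h.ii_cj_le hr hr1 hu))]
      exact one_mem _
    · refine h.mem_ii_cj hr hr1 hq hq1 hrqne.symm (h3 a ha u hu) (mul_mem ?_ (inv_mem hu))
      exact conj_mem_ws_of_mem (mem_centralizer_singleton_iff.2 haq) hu
    · rw [mem_bot] at hu
      rw [hu]
      simp
  -- `t ≤ |W_x : W_x ∩ D|`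
  set t := (ii V).relIndex (ws V z) with htdef
  have ht : t ≤ D.relIndex (ws V x) := by
    set D₀ := ws V x ⊓ centralizer ({f} : Set G) with hD₀
    have h01 : D₀ ≤ D ⊓ ws V x := by
      intro a ha
      have haf : a * f = f * a := mem_centralizer_singleton_iff.1 ha.2
      refine ⟨hmemD a (hxB ha.1) ?_, ha.1⟩
      rw [comm_eq_one haf]
      exact one_mem _
    have h4 : D₀.relIndex (D ⊓ ws V x) ≤ 2 := by
      have h5 : Nat.card (zpowers q) ≤ 2 := by
        rw [Nat.card_zpowers]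
        refine orderOf_le_of_pow_eq_one (by norm_num) ?_
        rw [pow_two, h.pt_sq hqc]
      refine le_trans (LemmaM.relIndex_le_card (A := D ⊓ ws V x) (D := D₀) (N := zpowers q)
        (fun a => a * f * a⁻¹ * f⁻¹) (fun a ha => ha.1.2.2.2 f (mem_zpowers f)) (fun a ha b hb => ?_)
        fun a ha hfa => ?_) h5
      · have h6 : b * f * b⁻¹ * f⁻¹ ∈ zpowers q := hb.1.2.2.2 f (mem_zpowers f)
        have h7 : a * f * a⁻¹ * f⁻¹ ∈ zpowers q := ha.1.2.2.2 f (mem_zpowers f)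
        have e : a * b * f * (a * b)⁻¹ * f⁻¹ = a * (b * f * b⁻¹ * f⁻¹) * a⁻¹ * (a * f * a⁻¹ * f⁻¹) := by group
        change a * b * f * (a * b)⁻¹ * f⁻¹ = (a * f * a⁻¹ * f⁻¹) * (b * f * b⁻¹ * f⁻¹)
        rw [e, conj_zpow_mem ha.1.1 h6]
        obtain ⟨i, hi⟩ := mem_zpowers_iff.1 h6
        obtain ⟨j, hj⟩ := mem_zpowers_iff.1 h7
        rw [← hi, ← hj, ← zpow_add, ← zpow_add, add_comm]
      · exact ⟨ha.2, mem_centralizer_singleton_iff.2 (comm_of_comm_eq_one hfa)⟩
    have h5 := relIndex_mul_relIndex D₀ (D ⊓ ws V x) (ws V x) h01 inf_le_right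
    rw [inf_relIndex_right] at h5
    have h6 : 2 * t ≤ 2 * D.relIndex (ws V x) := by
      calc 2 * t ≤ D₀.relIndex (ws V x) := h2t
        _ = D₀.relIndex (D ⊓ ws V x) * D.relIndex (ws V x) := h5.symm
        _ ≤ 2 * D.relIndex (ws V x) := Nat.mul_le_mul_right _ h4
    omega
  set L := B ⊓ kq V q with hL
  have hLD : L ≤ D := fun a ha => hmemD a ha.1 (ha.2.2.1 f hmv.mem)
  have hLB : L.relIndex B ≤ t := by
    have h4 := c.nb.le h hq hq1 hqi (E := ⊥) (E' := ii (cj g V)) fun u hu =>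
      ⟨h.ii_cj_le hq hq1 hu, fun b hb => hb.2.1 u hu⟩
    have h5 : (ii (cj g V)).relIndex (ws V q) = t :=
      NO3S.TwoFar.index_eq h (l := NO3S.TwoFar.ln V g) (x := NO3S.TwoFar.pt hq hq1) hq
    rw [h5] at h4
    exact h4
  have h4 := relIndex_mul_relIndex L D B hLD hDB
  have h5 : D.relIndex (ws V x) ≤ D.relIndex B := relIndex_le_of_le_right hxB index_ne_zero_of_finite
  have h6 : D.relIndex B ≠ 0 := index_ne_zero_of_finite
  have h7 : L.relIndex D ≠ 0 := index_ne_zero_of_finite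
  have h8 : L.relIndex D * D.relIndex B ≤ 1 * D.relIndex B := by
    rw [h4, one_mul]; omega
  have h9 := Nat.le_of_mul_le_mul_right h8 (Nat.pos_of_ne_zero h6)
  have h10 : D ≤ L := relIndex_eq_one.1 (by omega)
  exact (h10 (hmemD b hb hbf)).2

omit c gg in
/-- the line through two points -/
theorem line_eq (h : Fr T V z) {g g' a b : G} (ha : a ∈ cj g V) (hb : b ∈ cj g V) (ha' : a ∈ cj g' V)
    (hb' : b ∈ cj g' V) (ha1 : a ≠ 1) (hb1 : b ≠ 1) (hne : b ≠ a) : cj g V = cj g' V := by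
  have key : ∀ g g' : G, a ∈ cj g V → b ∈ cj g V → a ∈ cj g' V → b ∈ cj g' V → cj g V ≤ cj g' V := by
    intro g g' ha hb ha' hb' w hw
    rcases four' h ha ha1 hb hb1 hne hw with e | e | e | e
    · rw [e]; exact one_mem _
    · rwa [e]
    · rwa [e]
    · rw [e]; exact mul_mem ha' hb'
  exact le_antisymm (key g g' ha hb ha' hb') (key g' g ha' hb' ha hb)

/-- the elements of `W_p` with `C_B ≠ 1`, transported from `q` -/
theorem star [Finite G] (hnl : ¬ LamR V (m + 3) y) (ht : Term V m y) {g' : G}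
    (hr : y (m + 2) ∈ cj g V) (hq : y (m + 3) ∈ cj g V) (hp : y 0 ∈ cj g' V) (hp' : y 1 ∈ cj g' V) {c₀ : G}
    (e0 : c₀ * y (m + 3) * c₀⁻¹ = y 0) (e1 : c₀ * y (m + 2) * c₀⁻¹ = y 1) (hpi : y 0 ∈ ii (cj g' V))
    (hqi : y (m + 3) ∈ ii (cj g V)) {b w : G}
    (hb : b ∈ BC V g' (y 0) ⊥ hpi) (hbk : b ∉ kq V (y 0)) (hw : w ∈ ws V (y 0))
    (hbw : b * w * b⁻¹ * w⁻¹ ∈ zpowers (y 0)) : w ∈ cj c₀ (ee V (y (m + 3)) (y 0)) := by
  have h := c.fr
  rw [mem_cj]
  set f := c₀⁻¹ * w * c₀ with hf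
  have e0' : c₀⁻¹ * y 0 * c₀⁻¹⁻¹ = y (m + 3) := by rw [← e0]; group
  have hfq : f ∈ ws V (y (m + 3)) := by
    have := conj_mem_ws c₀⁻¹ hw
    rw [e0', inv_inv] at this
    exact this
  by_contra hfE
  have hfc : f ∉ centralizer (ws V (y 0) : Set G) := by
    intro h1
    exact hfE (mem_ee.2 ⟨hfq, fun a ha => (mem_centralizer_iff.1 h1 a ha).symm⟩)
  obtain ⟨x, hmv, hD⟩ := ((c.st gg).mover_or hfq hfc).resolve_right hnl
  have hcom := ht x f hmv hD
  have hl : cj c₀⁻¹ (cj g' V) = cj g V := by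
    have h1 : cj (c₀ * g) V = cj g' V := by
      have a1 : y 0 ∈ cj (c₀ * g) V := by
        rw [← cj_cj, ← e0]
        exact conj_mem_cj hq
      have a2 : y 1 ∈ cj (c₀ * g) V := by
        rw [← cj_cj, ← e1]
        exact conj_mem_cj hr
      exact line_eq h a1 a2 hp hp' gg.col0.ne_one gg.col0.right.ne_one (gg.ne_succ (i := 0) (by omega)).symm
    rw [← h1, cj_cj, inv_mul_cancel_left]
  have hb' : c₀⁻¹ * b * c₀⁻¹⁻¹ ∈ BC V g (y (m + 3)) ⊥ hqi := by
    refine BC_conj e0' hl (fun u hu => ?_) hb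
    rw [mem_bot] at hu ⊢
    rw [hu]; group
  have h2 : c₀⁻¹ * b * c₀⁻¹⁻¹ * f * (c₀⁻¹ * b * c₀⁻¹⁻¹)⁻¹ * f⁻¹ ∈ zpowers (y (m + 3)) := by
    have e : c₀⁻¹ * b * c₀⁻¹⁻¹ * f * (c₀⁻¹ * b * c₀⁻¹⁻¹)⁻¹ * f⁻¹ = c₀⁻¹ * (b * w * b⁻¹ * w⁻¹) * c₀⁻¹⁻¹ := by
      rw [hf]; group
    rw [e]
    exact conj_mem_zpowers e0' hbw
  have h3 := c.mem_kq gg hmv hD hcom hr hq hqi hb' h2
  apply hbk
  rw [← e0, ← cj_kq, mem_cj]
  rwa [inv_inv] at h3

/-- **(2.1), first part**: `λ ∈ R̄` for a terminal pair -/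
theorem lamR_of_term [Finite G] (ht : Term V m y) : LamR V (m + 3) y := by
  by_contra hnl
  have h := c.fr
  have hex := gg.exact h c.no
  have hWp : ws V (y 0) ≤ centralizer ({y (m + 3)} : Set G) := gg.cr.cent h
  have hWq : ws V (y (m + 3)) ≤ centralizer ({y 0} : Set G) := gg.cr.symm.cent h
  have hpp : Col V (y 0) (y 0) := gg.col0.left
  obtain ⟨g', hp, hp', hp1, hp1'⟩ := gg.col0
  obtain ⟨g, hr, hq, hr1, hq1⟩ := gg.path (m + 2) (by omega)
  have hqq : Col V (y (m + 3)) (y (m + 3)) := (gg.path (m + 2) (by omega)).right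
  have hpne : y 1 ≠ y 0 := (gg.ne_succ (i := 0) (by omega)).symm
  have hqne : y (m + 2) ≠ y (m + 3) := gg.ne_succ (i := m + 2) (by omega)
  obtain ⟨c₀, e0, e1⟩ := exists_flag2 h (gg.path (m + 2) (by omega)).symm hqne gg.col0 hpne
  have hpi : y 0 ∈ ii (cj g' V) := h.mem_ii_cj hp hp1 hp' hp1' hpne (h.line_le_ws hp hp) (h.line_le_ws hp' hp)
  have hqi : y (m + 3) ∈ ii (cj g V) :=
    h.mem_ii_cj hr hr1 hq hq1 hqne.symm (h.line_le_ws hr hq) (h.line_le_ws hq hq)
  set p := y 0 with hpdef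
  set q := y (m + 3) with hqdef
  set Ep := ee V p q with hEp
  set Eq := ee V q p with hEq
  have hEpw : Ep ≤ ws V p := fun a ha => (mem_ee.1 ha).1
  have hEqw : Eq ≤ ws V q := fun a ha => (mem_ee.1 ha).1
  have hp1q : Com V (y 1) q := gg.com (i := 1) (j := m + 3) (by omega) le_rfl (by omega) (by omega)
  have hle : ∀ a ∈ ws V p, ∀ b ∈ ws V q, a * b * a⁻¹ * b⁻¹ ∈ ii (cj g' V) := fun a ha b hb =>
    h.mem_ii_cj hp hp1 hp' hp1' hpne (gg.cr.comm_mem_left h ha hb) (gg.le a ha b hb)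
  -- `W_q ≤ B'`
  have hWB : ∀ b ∈ ws V q, b ∈ BC V g' p Ep hpi := by
    intro b hb
    refine ⟨mem_centralizer_singleton_iff.1 (hWq hb), fun u hu => ?_, fun u hu => ?_, fun u hu => ?_⟩
    · rw [comm_eq_one (hp1q u (h.ii_cj_le hp' hp1' hu) b hb).symm]
      exact one_mem _
    · rw [comm_inv_eq]
      exact inv_mem (hle u hu b hb)
    · rw [comm_eq_one ((mem_ee.1 hu).2 b hb).symm]
      exact one_mem _
  have hbot : ∀ b ∈ BC V g' p Ep hpi, b ∈ BC V g' p ⊥ hpi := fun b hb => ⟨hb.1, hb.2.1, hb.2.2.1, fun u hu => by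
    rw [mem_bot] at hu
    rw [hu]
    simp⟩
  obtain ⟨b₀, hb₀, hb₀k⟩ : ∃ b ∈ ws V q, b ∉ kq V p := by
    by_contra hcon
    push Not at hcon
    refine gg.cr.ne fun a ha b hb => ?_
    exact ((mem_ee.1 (hex.kq b hb (hcon b hb))).2 a ha).symm
  -- `E_p = E_q^c`
  have hE1 : Ep ≤ cj c₀ Eq := by
    intro e he
    refine c.star gg hnl ht hr hq hp hp' e0 e1 hpi hqi (hbot _ (hWB b₀ hb₀)) hb₀k (hEpw he) ?_
    rw [comm_eq_one ((mem_ee.1 he).2 b₀ hb₀).symm]
    exact one_mem _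
  have hcard : Nat.card (cj c₀ Eq) ≤ Nat.card Ep := by
    rw [card_cj]
    have h1 := NO3S.Dual.card_mul_relIndex_of_le hEpw
    have h2 := NO3S.Dual.card_mul_relIndex_of_le hEqw
    have h3 : Nat.card (ws V p) = Nat.card (ws V q) := by
      rw [← e0, ← cj_ws, card_cj]
    have h4 : Ep.relIndex (ws V p) = Eq.relIndex (ws V q) := hex.card
    have h5 : Eq.relIndex (ws V q) ≠ 0 := index_ne_zero_of_finite
    rw [h4, h3, ← h2] at h1
    exact (Nat.eq_of_mul_eq_mul_right (Nat.pos_of_ne_zero h5) h1).ge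
  have hE : Ep = cj c₀ Eq := eq_of_le_of_card_ge hE1 hcard
  -- `E_p` is invariant
  have hinv : ∀ k : G, k * p = p * k → cj k (cj g' V) = cj g' V → ∀ e ∈ Ep, k * e * k⁻¹ ∈ Ep := by
    intro k hk hkl e he
    have hkp : k * p * k⁻¹ = p := by rw [hk, mul_inv_cancel_right]
    rw [hE]
    have hb1 : k * b₀ * k⁻¹ ∈ BC V g' p ⊥ hpi := by
      refine BC_conj hkp hkl (fun u hu => ?_) (hbot _ (hWB b₀ hb₀))
      rw [mem_bot] at hu ⊢
      rw [hu]; group
    refine c.star gg hnl ht hr hq hp hp' e0 e1 hpi hqi hb1 (fun h1 => hb₀k ?_) ?_ ?_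
    · have h2 : k * b₀ * k⁻¹ ∈ kq V (k * p * k⁻¹) := by rw [hkp]; exact h1
      rw [← cj_kq, mem_cj] at h2
      have e : k⁻¹ * (k * b₀ * k⁻¹) * k = b₀ := by group
      rwa [e] at h2
    · exact conj_mem_ws_of_mem (mem_centralizer_singleton_iff.2 hk) (hEpw he)
    · have e2 : k * b₀ * k⁻¹ * (k * e * k⁻¹) * (k * b₀ * k⁻¹)⁻¹ * (k * e * k⁻¹)⁻¹ =
          k * (b₀ * e * b₀⁻¹ * e⁻¹) * k⁻¹ := by group
      rw [e2, comm_eq_one ((mem_ee.1 he).2 b₀ hb₀).symm, mul_one, mul_inv_cancel]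
      exact one_mem _
  -- `B' = W_q (B' ∩ K_p)`
  set B' := BC V g' p Ep hpi with hB'
  set L := B' ⊓ kq V p with hL
  have hLB : L.relIndex B' ≤ Ep.relIndex (ws V p) :=
    c.nb.le h hp hp1 hpi fun u hu => ⟨hEpw hu, fun b hb => hb.2.2.2 u hu⟩
  have hLW : Eq.relIndex (ws V q) ≤ L.relIndex (ws V q) := by
    rw [← inf_relIndex_right L]
    exact relIndex_le_of_le_left (fun a ha => hex.kq a ha.2 ha.1.2) index_ne_zero_of_finite
  have hsup : B' ≤ ws V q ⊔ L := by
    rw [← relIndex_eq_one]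
    have a1 := relIndex_mul_relIndex L (ws V q ⊔ L) B' le_sup_right (sup_le hWB inf_le_left)
    have a2 : L.relIndex (ws V q) ≤ L.relIndex (ws V q ⊔ L) :=
      relIndex_le_of_le_right le_sup_left index_ne_zero_of_finite
    have a3 : L.relIndex (ws V q ⊔ L) ≠ 0 := index_ne_zero_of_finite
    have a4 : (ws V q ⊔ L).relIndex B' ≠ 0 := index_ne_zero_of_finite
    have a6 : Ep.relIndex (ws V p) = Eq.relIndex (ws V q) := hex.card
    have a5 : L.relIndex (ws V q ⊔ L) * (ws V q ⊔ L).relIndex B' ≤ L.relIndex (ws V q ⊔ L) * 1 := by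
      rw [a1, mul_one]; omega
    have a7 := Nat.le_of_mul_le_mul_left a5 (Nat.pos_of_ne_zero a3)
    omega
  have hLn : ∀ a ∈ ws V q, ∀ b ∈ L, a * b * a⁻¹ ∈ L := by
    intro a ha b hb
    refine mem_inf.2 ⟨B'.mul_mem (B'.mul_mem (hWB a ha) hb.1) (B'.inv_mem (hWB a ha)), ?_⟩
    exact conj_mem_of_normalizer (centralizer_le_normalizer_kq V p) (hWq ha) hb.2
  -- `R ⟨p⟩`
  have hRw : rr V p q ≤ ws V p := by
    unfold rr
    rw [closure_le]
    rintro _ ⟨a, ha, b, hb, rfl⟩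
    exact gg.cr.comm_mem_left h ha hb
  have hpw : p ∈ ws V p := h.mem_ws_self hpp
  set RP := rr V p q ⊔ zpowers p with hRP
  have hpRP : p ∈ RP := (le_sup_right : _ ≤ RP) (mem_zpowers p)
  have key : ∀ a ∈ ws V p, ∀ b ∈ B', a * b * a⁻¹ * b⁻¹ ∈ RP := by
    intro a ha b hb
    obtain ⟨b', hb', k, hk, rfl⟩ := exists_mul_of_mem_sup' hLn (hsup hb)
    have h1 : a * b' * a⁻¹ * b'⁻¹ ∈ RP := (le_sup_left : _ ≤ RP) (comm_mem_rr ha hb')
    rcases h.kq_cases' hpp hk.2 (inv_mem ha) with e | e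
    · have e2 : a * (b' * k) * a⁻¹ * (b' * k)⁻¹ = a * b' * (k * a⁻¹ * k⁻¹) * b'⁻¹ := by group
      rw [e2, e]
      exact h1
    · have e2 : a * (b' * k) * a⁻¹ * (b' * k)⁻¹ = a * b' * (k * a⁻¹ * k⁻¹) * b'⁻¹ := by group
      have e3 : b' * p = p * b' := mem_centralizer_singleton_iff.1 (hWq hb')
      have e4 : a * p = p * a := h.ws_comm hpp a ha p hpw
      have e5 : a * b' * (p * a⁻¹) * b'⁻¹ = p * (a * b' * a⁻¹ * b'⁻¹) := by
        calc a * b' * (p * a⁻¹) * b'⁻¹ = a * (b' * p) * a⁻¹ * b'⁻¹ := by group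
          _ = (a * p) * b' * a⁻¹ * b'⁻¹ := by rw [e3]; group
          _ = p * (a * b' * a⁻¹ * b'⁻¹) := by rw [e4]; group
      rw [e2, e, e5]
      exact mul_mem hpRP h1
  have hRinv : ∀ k : G, k * p = p * k → cj k (cj g' V) = cj g' V → ∀ w ∈ rr V p q, k * w * k⁻¹ ∈ RP := by
    intro k hk hkl w hw
    have hkp : k * p * k⁻¹ = p := by rw [hk, mul_inv_cancel_right]
    have hk' : k⁻¹ * p = p * k⁻¹ := by
      rw [inv_mul_eq_iff_eq_mul, ← mul_assoc, hk, mul_inv_cancel_right]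
    have hkl' : cj k⁻¹ (cj g' V) = cj g' V := by
      conv_lhs => rw [← hkl, cj_cj, inv_mul_cancel, cj_one]
    have h1 : rr V p q ≤ RP.comap (MulAut.conj k).toMonoidHom := by
      conv_lhs => unfold rr
      rw [closure_le]
      rintro _ ⟨a, ha, b, hb, rfl⟩
      change k * (a * b * a⁻¹ * b⁻¹) * k⁻¹ ∈ RP
      rw [← conj_comm]
      refine key _ (conj_mem_ws_of_mem (mem_centralizer_singleton_iff.2 hk) ha) _ ?_
      refine BC_conj hkp hkl (fun u hu => ?_) (hWB b hb)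
      have := hinv k⁻¹ hk' hkl' u hu
      rwa [inv_inv] at this
    exact h1 hw
  -- the end
  obtain ⟨w, hw, hw1⟩ : ∃ w ∈ rr V p q, w ≠ 1 := by
    by_contra hcon
    push Not at hcon
    exact gg.cr.ne fun a ha b hb => comm_of_comm_eq_one (hcon _ (comm_mem_rr ha hb))
  have hRii : rr V p q ≤ ii (cj g' V) := by
    unfold rr
    rw [closure_le]
    rintro _ ⟨a, ha, b, hb, rfl⟩
    exact hle a ha b hb
  have hRq : rr V p q ≤ ws V q := by
    unfold rr
    rw [closure_le]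
    rintro _ ⟨a, ha, b, hb, rfl⟩
    exact gg.cr.comm_mem_right h ha hb
  by_cases hwl : w ∈ cj g' V
  · rcases four' h hp hp1 hp' hp1' hpne hwl with e | e | e | e
    · exact hw1 e
    · have h1 := hRq hw
      rw [e] at h1
      exact gg.not_mem h1
    · exact hnl (Or.inl (e ▸ hw))
    · exact hnl (Or.inr (e ▸ hw))
  · obtain ⟨k, -, hk, hkw⟩ := h.fu_cj (hRii hw) hwl hp' hp1'
    have hkp : k * p = p * k := (mem_centralizer_iff.1 hk p hp).symm
    have hkl : cj k (cj g' V) = cj g' V := cj_eq_of_mem_normalizer (centralizer_le_normalizer _ hk)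
    have h1 := hRinv k hkp hkl w hw
    rw [hkw] at h1
    have h2 : y 1 ∈ RP := by
      have := mul_mem h1 (inv_mem ((le_sup_left : _ ≤ RP) hw))
      rwa [mul_inv_cancel_right] at this
    obtain ⟨a, ha, d, hd, hyd⟩ := NO3S.Dual.mem_sup_of_comm (h.ws_comm hpp) hRw (zpowers_le.2 hpw) h2
    rcases (mem_zpowers_iff_of_mul_self (h.pt_sq hpp)).1 hd with e | e
    · rw [e, mul_one] at hyd
      exact hnl (Or.inl (hyd ▸ ha))
    · rw [e] at hyd
      refine hnl (Or.inr ?_)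
      have e3 : a * p = p * a := h.ws_comm hpp a (hRw ha) p hpw
      change p * y 1 ∈ rr V p q
      rw [hyd, e3, ← mul_assoc, h.pt_sq hpp, one_mul]
      exact ha

/-! ### the twin geodesic -/

omit c gg in
/-- (F2) for paths -/
theorem pthTrans [Finite G] (h : Fr T V z) {g a b u : G} {k : ℕ} (ha : a ∈ cj g V) (ha1 : a ≠ 1)
    (hb : b ∈ cj g V) (hb1 : b ≠ 1) (hne : b ≠ a) (hua : u ∈ ws V a) (hub : u ∈ ws V b) (hu : u ∉ cj g V)
    (hc : Pth V k u a) : Pth V k u b := by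
  have hii := h.mem_ii_cj ha ha1 hb hb1 hne hua hub
  obtain ⟨c, -, hcu, hcab⟩ := h.ftwo_cj hii hu ha ha1 hb hb1
  have := hc.conj c
  rwa [NO3S.Dual.conj_eq_of_comm hcu, hcab] at this

omit c gg in
/-- a path as a sequence -/
theorem exists_seq {k : ℕ} {a b : G} (h : Pth V k a b) :
    ∃ w : ℕ → G, w 0 = a ∧ w k = b ∧ ∀ i < k, Col V (w i) (w (i + 1)) := by
  induction h with
  | @zero a' hx => exact ⟨fun _ => a', rfl, rfl, fun i hi => absurd hi (by omega)⟩
  | @step k a b d h1 h2 ih =>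
    obtain ⟨w, h3, h4, h5⟩ := ih
    refine ⟨fun i => if i ≤ k then w i else d, by simp [h3], by simp, fun i hi => ?_⟩
    rcases Nat.lt_or_ge i k with hik | hik
    · have e1 : (if i ≤ k then w i else d) = w i := if_pos (by omega)
      have e2 : (if i + 1 ≤ k then w (i + 1) else d) = w (i + 1) := if_pos (by omega)
      change Col V (if i ≤ k then w i else d) (if i + 1 ≤ k then w (i + 1) else d)
      rw [e1, e2]
      exact h5 i hik
    · obtain rfl : i = k := by omega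
      have e1 : (if i ≤ i then w i else d) = w i := if_pos le_rfl
      have e2 : (if i + 1 ≤ i then w (i + 1) else d) = d := if_neg (by omega)
      change Col V (if i ≤ i then w i else d) (if i + 1 ≤ i then w (i + 1) else d)
      rw [e1, e2, h4]
      exact h2

/-- `R ≤ I_{l_n}` for a terminal pair -/
theorem rr_le_of_term [Finite G] (ht : Term V m y) : rr V (y 0) (y (m + 3)) ≤ ws V (y (m + 2)) := by
  obtain ⟨x, f, hmv, hD⟩ := (c.st gg).exists_D c.nt
  have hcom := ht x f hmv hD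
  have hpth : Pth V (m + 3 - 1) (y 0) (y (m + 2)) :=
    gg.pth (i := 0) (j := m + 2) (by omega) (by omega) (by omega)
  have h1 := MPlus.lemMplus c.fr (by omega) c.no gg.cr hpth (gg.path (m + 2) (by omega)) hmv.col.symm hmv.mem
    hmv.mv hD
  obtain ⟨-, -, h2⟩ := h1.resolve_left fun hg => hg.crit.ne hcom
  unfold rr
  rw [closure_le]
  rintro _ ⟨a, ha, b, hb, rfl⟩
  exact h2 a ha b hb

/-- **(2.1)** -/
theorem term [Finite G] (ht : Term V m y) :
    y 0 * y 1 ∈ rr V (y 0) (y (m + 3)) ∧ y 1 ∉ rr V (y 0) (y (m + 3)) := by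
  have h := c.fr
  have hrr := c.rr_le_of_term gg ht
  have hRq : rr V (y 0) (y (m + 3)) ≤ ws V (y (m + 3)) := by
    unfold rr
    rw [closure_le]
    rintro _ ⟨a, ha, b, hb, rfl⟩
    exact gg.cr.comm_mem_right h ha hb
  obtain ⟨g, hr, hq, hr1, hq1⟩ := gg.path (m + 2) (by omega)
  have hqne : y (m + 2) ≠ y (m + 3) := gg.ne_succ (i := m + 2) (by omega)
  have h1 : y 1 ∉ rr V (y 0) (y (m + 3)) := by
    intro h1
    by_cases hl : y 1 ∈ cj g V
    · exact gg.dist (i := 1) (j := m + 3) (k := 1) (by omega) le_rfl (by omega) (by omega)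
        (Pth.of_col (Col.of_mem hl hq gg.col0.right.ne_one hq1))
    · have h2 : Pth V (m + 1) (y 1) (y (m + 2)) :=
        gg.pth (i := 1) (j := m + 2) (by omega) (by omega) (by omega)
      exact gg.dist (i := 1) (j := m + 3) (k := m + 1) (by omega) le_rfl (by omega) (by omega)
        (pthTrans h hr hr1 hq hq1 hqne.symm (hrr h1) (hRq h1) hl h2)
  exact ⟨(c.lamR_of_term gg ht).resolve_left h1, h1⟩

/-- a goal pair has a geodesic for which it is not terminal -/
theorem exists_not_term [Finite G] : ∃ y' : ℕ → G, GG V (m + 3) y' ∧ ¬ Term V m y' := by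
  by_cases ht : Term V m y
  · have h := c.fr
    obtain ⟨he, h1⟩ := c.term gg ht
    have hrr := c.rr_le_of_term gg ht
    have hRq : rr V (y 0) (y (m + 3)) ≤ ws V (y (m + 3)) := by
      unfold rr
      rw [closure_le]
      rintro _ ⟨a, ha, b, hb, rfl⟩
      exact gg.cr.comm_mem_right h ha hb
    obtain ⟨g, hr, hq, hr1, hq1⟩ := gg.path (m + 2) (by omega)
    obtain ⟨g', hp, hp', hp1, hp1'⟩ := gg.col0
    have hqne : y (m + 2) ≠ y (m + 3) := gg.ne_succ (i := m + 2) (by omega)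
    have hpne : y 1 ≠ y 0 := (gg.ne_succ (i := 0) (by omega)).symm
    have hpp := h.pt_sq gg.col0.left
    have hel : y 0 * y 1 ∈ cj g' V := mul_mem hp hp'
    have hen : y 0 * y 1 ≠ 1 := by
      intro e
      apply hpne
      calc y 1 = y 0 * y 0 * y 1 := by rw [hpp, one_mul]
        _ = y 0 := by rw [mul_assoc, e, mul_one]
    have hpe : Col V (y 0) (y 0 * y 1) := Col.of_mem hp hel hp1 hen
    have he1 : Col V (y 0 * y 1) (y 1) := Col.of_mem hel hp' hen hp1'
    have hnl : y 0 * y 1 ∉ cj g V := by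
      intro hl
      exact gg.no_pth (k := 2) (by omega) ((Pth.of_col hpe).step (Col.of_mem hl hq hen hq1))
    have h2 : Pth V (m + 2) (y 0 * y 1) (y (m + 2)) := by
      have := gg.pth (i := 1) (j := m + 2) (by omega) (by omega) (by omega)
      exact this.head he1
    have h3 := pthTrans h hr hr1 hq hq1 hqne.symm (hrr he) (hRq he) hnl h2
    obtain ⟨w, hw0, hwn, hw⟩ := exists_seq h3
    have hy0 : ch (y 0) w 0 = y 0 := rfl
    have hy1 : ch (y 0) w 1 = y 0 * y 1 := hw0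
    have hyn : ch (y 0) w (m + 3) = y (m + 3) := hwn
    have hgg : GG V (m + 3) (ch (y 0) w) := by
      refine ⟨by rw [hy0, hyn]; exact gg.cr, ?_, by rw [hy0, hyn]; exact gg.not_mem,
        by rw [hy0, hyn]; exact gg.not_mem', ?_⟩
      · intro i hi
        cases i with
        | zero => rw [hy0, hy1]; exact hpe
        | succ i => exact hw i (by omega)
      · intro a ha b hb
        rw [hy0] at ha
        rw [hyn] at hb
        rw [hy1]
        exact h.ii_cj_le hel hen (h.mem_ii_cj hp hp1 hp' hp1' hpne (gg.cr.comm_mem_left h ha hb) (gg.le a ha b hb))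
    refine ⟨_, hgg, fun ht' => h1 ?_⟩
    have h4 := (c.term hgg ht').1
    rw [hy0, hy1, hyn, ← mul_assoc, hpp, one_mul] at h4
    exact h4
  · exact ⟨y, gg, ht⟩

/-- a pair which is not terminal has a child -/
theorem exists_child [Finite G] (ht : ¬ Term V m y) : ∃ x f, Child V m y x f := by
  unfold Term at ht
  push Not at ht
  obtain ⟨x, f, hmv, hD, hcom⟩ := ht
  have hpth : Pth V (m + 3 - 1) (y 0) (y (m + 2)) :=
    gg.pth (i := 0) (j := m + 2) (by omega) (by omega) (by omega)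
  rcases (lemM c.fr (by omega) c.no gg.cr hpth (gg.path (m + 2) (by omega)) hmv.col.symm hmv.mem
    hmv.mv hD).2 with h1 | h1
  · exact ⟨x, f, gg_of_goal gg h1, hmv, hD⟩
  · exact absurd h1.1 hcom

/-- **(2.2)** a child is never terminal -/
theorem not_term_child [Finite G] (hc : Child V m y x f) : ¬ Term V m (ch x y) := by
  intro ht
  have h := c.fr
  have h1 := (c.term hc.gg ht).1
  change x * y 0 ∈ rr V x (y (m + 2)) at h1
  have hq' : rr V x (y (m + 2)) ≤ ws V (y (m + 2)) ⊓ (ws V x ⊓ ws V (y 0)) := by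
    unfold rr
    rw [closure_le]
    rintro _ ⟨a, ha, b, hb, rfl⟩
    exact ⟨hc.gg.cr.comm_mem_right h ha hb, hc.gg.cr.comm_mem_left h ha hb, hc.gg.le a ha b hb⟩
  obtain ⟨h2, h3, h4⟩ := hq' h1
  have hcom : Com V (y (m + 2)) (y (m + 3)) := gg.com (by omega) le_rfl (by omega) (by omega)
  have h5 := hc.mv.cen _ h3 h4 (hcom _ h2 f hc.mv.mem).symm
  have h6 : x ∈ ws V (y 1) := by
    have h7 : y 0 ∈ ws V (y 1) := h.mem_ws_of_col gg.col0.symm
    have := mul_mem h5 (inv_mem h7)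
    rwa [mul_inv_cancel_right] at this
  have h7 : Com V (y 1) (y (m + 3)) := gg.com (by omega) le_rfl (by omega) (by omega)
  exact hc.mv.mv (NO3S.Dual.conj_eq_of_comm (h7 x h6 f hc.mv.mem).symm)

/-- **(2.3)** if there is a goal pair, there is a child of a child -/
theorem exists_gr [Finite G] : ∃ y', Gr V m y' := by
  obtain ⟨y₀, gg₀, ht₀⟩ := c.exists_not_term gg
  obtain ⟨x, f, hc⟩ := c.exists_child gg₀ ht₀
  obtain ⟨x', f', hc'⟩ := c.exists_child hc.gg (c.not_term_child gg₀ hc)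
  exact ⟨_, y₀, x, f, x', f', gg₀, hc, hc', rfl⟩

end Ctx

end Cfsg.Agent.Omega.NOThree.LL

end

section


/-!
# TwoFar, THEOREM LL (#18157): COR of LEMMA TL2

No critical pair `(p, q)` of type I (`p ∉ W_q`, `q ∉ W_p`) has `[W_p, W_q] = ⟨e⟩` with `e ∼ p` (K-free, `n ≥ 3`,
`N_p` arbitrary): `W_q` induces on `M_p` transvections with centre a line vector, hence (conjugation) some element of
`C(q)` induces on `M_q` a transvection with centre a line vector; `W_p` induces on `M_q` transvections with centre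
`e mod q`, so `e` is a line vector of `M_q` (`Block.Sys.tl2`), `e ∼ q`, and `p, e, q` is a path of length 2.

* `tr_of_comm` : `[W_p, b] = ⟨e⟩`: `b` induces a transvection of `M_p` with centre `π e`;
* `Tr.transport` : transport of a transvection by `Md.tr`;
* `col_of_tr` : (TL2) if a line vector is the centre of a transvection of `M_q`, so is the centre of every transvection;
* `noTwo : NoTwo V (m + 3)`.
-/

set_option autoImplicit false
set_option linter.unusedSectionVars false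

namespace Cfsg.Agent.Omega.NOThree.LL

open Subgroup Cfsg Cfsg.Agent.ZN Cfsg.Agent.MinSimple.Geo Cfsg.Agent.Omega.CaseL Cfsg.Agent.Omega.NO3S.TwoOne
open Cfsg.Agent.Omega.NO3S.Pt
open Cfsg.Agent.Omega.NOThree.TF (Md conj_mem_ws_of_mem exists_T ce MM pim md_MM)

universe u v w

variable {G : Type u} [Group G] {T V : Subgroup G} {z p q : G}

section tr

variable {M : Type v} [AddCommGroup M] [DistribMulAction (centralizer ({p} : Set G)) M] {π : G → M}

/-- `[W_p, b] = ⟨e⟩`: `b` induces a transvection with centre `π e` -/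
theorem tr_of_comm (md : Md V p π) {b e : G} (hb : b ∈ centralizer ({p} : Set G))
    (he : e ∈ ws V p) (he1 : e ≠ 1) (hep : e ≠ p)
    (hc : ∀ a ∈ ws V p, b * a * b⁻¹ = a ∨ b * a * b⁻¹ = e * a) (hne : ∃ a ∈ ws V p, b * a * b⁻¹ ≠ a) :
    Tr (H := centralizer ({p} : Set G)) (π e) ⟨b, hb⟩ where
  tr m := by
    obtain ⟨a, ha, rfl⟩ := md.surj m
    rw [← md.smul ⟨b, hb⟩ a ha]
    rcases hc a ha with e1 | e1
    · left
      change π (b * a * b⁻¹) = _
      rw [e1]
    · right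
      change π (b * a * b⁻¹) = _
      rw [e1, md.map_mul e he a ha, add_comm]
  ne := by
    obtain ⟨a, ha, hne⟩ := hne
    refine ⟨π a, ?_⟩
    rw [← md.smul ⟨b, hb⟩ a ha]
    change π (b * a * b⁻¹) ≠ _
    rcases hc a ha with e1 | e1
    · exact absurd e1 hne
    · rw [e1, md.map_mul e he a ha]
      intro e2
      have e3 : π e = 0 := by
        have := add_eq_right.1 e2
        exact this
      rcases (md.ker e he).1 e3 with e4 | e4
      · exact he1 e4
      · exact hep e4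

variable {M' : Type w} [AddCommGroup M'] [DistribMulAction (centralizer ({q} : Set G)) M'] {π' : G → M'} {g : G}

/-- transport of a transvection -/
theorem Tr.transport (h : Fr T V z) (hp : Col V p p) (md : Md V p π) (md' : Md V q π') (e : g * p * g⁻¹ = q)
    {x : G} (hx : x ∈ ws V p) {t : centralizer ({p} : Set G)} (ht : Tr (π x) t) :
    Tr (π' (g * x * g⁻¹)) (ce e t) where
  tr m := by
    obtain ⟨m, rfl⟩ := (TF.Md.tr h hp md md' e).surjective m
    rw [← TF.Md.tr_smul h hp md md' e, ← TF.Md.tr_π h hp md md' e hx]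
    rcases ht.tr m with e1 | e1
    · left; rw [e1]
    · right; rw [e1, map_add]
  ne := by
    obtain ⟨m, hm⟩ := ht.ne
    refine ⟨TF.Md.tr h hp md md' e m, ?_⟩
    rw [← TF.Md.tr_smul h hp md md' e]
    exact fun e1 => hm ((TF.Md.tr h hp md md' e).injective e1)

end tr

section tl

variable {M : Type v} [AddCommGroup M] [DistribMulAction (centralizer ({p} : Set G)) M] {π : G → M}

/-- (TL2) a line vector is the centre of a transvection of `M_p`: the centre of every transvection is a line vector -/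
theorem col_of_tr [Finite G] (h : Fr T V z) (md : Md V p π) {x : G} (hx : Col V p x) (hxp : x ≠ p)
    {t : centralizer ({p} : Set G)} (ht : Tr (π x) t) {e : G} (he : e ∈ ws V p) (he1 : e ≠ 1) (hep : e ≠ p)
    {s : centralizer ({p} : Set G)} (hs : Tr (π e) s) : Col V p e := by
  have hp := hx.left
  have hfin : Finite M := finite_Md md
  let _ : Module (ZMod 2) M := AddCommGroup.zmodModule fun m => by rw [two_nsmul, md.two h hp]
  have hxne : π x ≠ 0 := md.pt_ne_zero h hx hxp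
  have hene : π e ≠ 0 := by
    intro e0
    rcases (md.ker e he).1 e0 with e4 | e4
    · exact he1 e4
    · exact hep e4
  set Δ : Set M := {v | ∃ g : centralizer ({p} : Set G), v = g • π x} with hΔ
  obtain ⟨φ, hφ, hφt⟩ := ht.exists_fun hxne
  obtain ⟨ψ, hψ, hψs⟩ := hs.exists_fun hene
  have S : Block.Sys (Im (centralizer ({p} : Set G)) M) Δ := by
    refine ⟨?_, ?_, ?_, ?_, ?_⟩
    · rintro k _ ⟨g, rfl⟩
      obtain ⟨k, rfl⟩ := toIm_surj k
      exact ⟨k * g, by rw [toIm_smul, mul_smul]⟩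
    · rintro _ ⟨g, rfl⟩ _ ⟨g', rfl⟩
      refine ⟨toIm (g' * g⁻¹), ?_⟩
      rw [toIm_smul, mul_smul, inv_smul_smul]
    · rintro ⟨g, hg⟩
      exact hxne (by rwa [eq_comm, smul_eq_zero_iff_eq] at hg)
    · rw [eq_top_iff]
      intro m _
      exact span_pt h md hx hxp m
    · exact ⟨π x, ⟨1, by rw [one_smul]⟩, φ, ⟨_, hφt⟩, hφ⟩
  obtain ⟨c, hc⟩ := S.tl2 (pCore_im (redM_pt h md hx hxp)) hene ⟨_, hψs⟩ hψ
  rw [← md.smul c x (h.mem_ws_of_col hx)] at hc
  have hcol : Col V p ((c : G) * x * (c : G)⁻¹) := by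
    have h1 := hx.conj (c : G)
    have h2 : (c : G) * p * (c : G)⁻¹ = p := by
      have := mem_centralizer_singleton_iff.1 c.2
      rw [this, mul_inv_cancel_right]
    rwa [h2] at h1
  rcases (md.eq_iff h hp he (h.mem_ws_of_col hcol)).1 hc with e1 | e1
  · rw [e1]; exact hcol
  · obtain ⟨l, h1, h2, h3, h4⟩ := hcol
    exact ⟨l, h1, by rw [e1]; exact mul_mem h1 h2, h3, he1⟩

end tl

/-- **COR** (of TL2) -/
theorem noTwo [Finite G] (h : Fr T V z) (m : ℕ) : NoTwo V (m + 3) := by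
  intro p q e hc hpq hqp hpe hcomm
  have hp : Col V p p := hc.path.left
  have hq : Col V q q := hc.path.right
  -- a pair with `[a₀, b₀] = e`
  obtain ⟨a₀, ha₀, b₀, hb₀, hab⟩ : ∃ a ∈ ws V p, ∃ b ∈ ws V q, a * b ≠ b * a := by
    by_contra hcon
    push Not at hcon
    exact hc.ne hcon
  have hne : a₀ * b₀ * a₀⁻¹ * b₀⁻¹ ≠ 1 := by
    intro e1
    apply hab
    calc a₀ * b₀ = (a₀ * b₀ * a₀⁻¹ * b₀⁻¹) * (b₀ * a₀) := by group
      _ = b₀ * a₀ := by rw [e1, one_mul]
  have he0 : a₀ * b₀ * a₀⁻¹ * b₀⁻¹ = e := (hcomm a₀ ha₀ b₀ hb₀).resolve_left hne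
  have hep : e ∈ ws V p := by rw [← he0]; exact hc.comm_mem_left h ha₀ hb₀
  have heq : e ∈ ws V q := by rw [← he0]; exact hc.comm_mem_right h ha₀ hb₀
  have he1 : e ≠ 1 := hpe.right.ne_one
  have hnep : e ≠ p := fun e1 => hpq (e1 ▸ heq)
  have hneq : e ≠ q := fun e1 => hqp (e1 ▸ hep)
  have hee : e * e = 1 := h.ws_sq hp e hep
  -- the action of `b` on `W_p`
  have hb : ∀ b ∈ ws V q, ∀ a ∈ ws V p, b * a * b⁻¹ = a ∨ b * a * b⁻¹ = e * a := by
    intro b hb a ha
    have haa : a⁻¹ = a := inv_eq_of_mul_eq_one_right (h.ws_sq hp a ha)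
    rcases hcomm a ha b hb with e1 | e1
    · left
      calc b * a * b⁻¹ = (a * b * a⁻¹ * b⁻¹)⁻¹ * a := by group
        _ = a := by rw [e1, inv_one, one_mul]
    · right
      calc b * a * b⁻¹ = (a * b * a⁻¹ * b⁻¹)⁻¹ * a := by group
        _ = e * a := by rw [e1, inv_eq_of_mul_eq_one_right hee]
  have ha : ∀ a ∈ ws V p, ∀ b ∈ ws V q, a * b * a⁻¹ = b ∨ a * b * a⁻¹ = e * b := by
    intro a ha b hb
    rcases hcomm a ha b hb with e1 | e1
    · left
      calc a * b * a⁻¹ = (a * b * a⁻¹ * b⁻¹) * b := by group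
        _ = b := by rw [e1, one_mul]
    · right
      calc a * b * a⁻¹ = (a * b * a⁻¹ * b⁻¹) * b := by group
        _ = e * b := by rw [e1]
  -- the transvections
  have hmp := md_MM h hp
  have hmq := md_MM h hq
  have ht := tr_of_comm hmp (hc.symm.cent h hb₀) hep he1 hnep (hb b₀ hb₀)
    ⟨a₀, ha₀, fun e1 => hab (by rw [← mul_inv_eq_iff_eq_mul.1 e1])⟩
  have hs := tr_of_comm hmq (hc.cent h ha₀) heq he1 hneq (ha a₀ ha₀)
    ⟨b₀, hb₀, fun e1 => hab (by rw [← mul_inv_eq_iff_eq_mul.1 e1])⟩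
  obtain ⟨g, hg⟩ := h.exists_conj hp hq
  have ht' := Tr.transport h hp hmp hmq hg hep ht
  have hcol : Col V q (g * e * g⁻¹) := by
    have := hpe.conj g
    rwa [hg] at this
  have hne' : g * e * g⁻¹ ≠ q := by
    intro e1
    rw [← hg] at e1
    exact hnep (mul_left_cancel (mul_right_cancel e1))
  have hqe := col_of_tr h hmq hcol hne' ht' heq he1 hneq hs
  have hpath : Pth V 2 p q := (Pth.of_col hpe).step hqe.symm
  exact hc.ne (hc.min 2 (by omega) p q hpath)

end Cfsg.Agent.Omega.NOThree.LL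

end

section


/-!
# TwoFar: a goal pair exists if `N_p = p` for all points (THEOREM S of helper103 #17490, #18157 (6.2))

`(p, q)` an exact critical pair, `x^b ≠ p x` for the points `x ∼ p`, `b ∈ W_q`, `N_p = p`.

* `Pre` : the setting; `Pre.exists_mover`, `Pre.one_one` (1.1), `Pre.all` (1.2): without special points
  `[W_p, W_q] ≤ V_{l_1}`;
* `exists_sp` : there is a special point; `exists_goal` : there is a goal pair.
-/

set_option autoImplicit false
set_option linter.unusedSectionVars false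

namespace Cfsg.Agent.Omega.NOThree.LL

open Subgroup Cfsg Cfsg.Agent.ZN Cfsg.Agent.MinSimple.Geo Cfsg.Agent.Omega.CaseL Cfsg.Agent.Omega.NO3S.TwoOne
open Cfsg.Agent.Omega.NO3S.Pt
open Cfsg.Agent.Omega.NO3S.Dual (nn mem_nn DW)
open Cfsg.Agent.Omega.NOThree.TF (Md conj_mem_ws_of_mem exists_T exists_flag2 MM pim md_MM ce)
open Cfsg.Agent.Omega.NOThree.SecOne (Exact ee mem_ee Goal comm_of_comm_eq_one comm_eq_one comm_inv_eq)
open Cfsg.Agent.Omega.NOThree.SecFive (Sp)
open Cfsg.Agent.ZN.Block (conj_mem_of_normalizer conj_mem_of_normalizer' le_normalizer_of_forall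
  mem_normalizer_of)

universe u v

variable {G : Type u} [Group G] {M : Type v} [AddCommGroup M]

/-- an exact critical pair with `x^b ≠ p x`, `N_p = p` -/
structure Pre (T V : Subgroup G) (z : G) (m : ℕ) (p q p₁ : G) [DistribMulAction (centralizer ({p} : Set G)) M]
    (π : G → M) : Prop where
  fr : Fr T V z
  cr : Cr V (m + 3) p q
  col : Col V p p₁
  ne : p₁ ≠ p
  pth : Pth V (m + 2) p₁ q
  ex : Exact V p q
  nm : ∀ x, Col V x p → x ≠ p → ∀ b ∈ ws V q, b * x * b⁻¹ ≠ p * x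
  md : Md V p π
  nb : nn (ws V p) (kq V p) ≤ zpowers p

namespace Pre

variable {T V : Subgroup G} {z p q p₁ : G} {m : ℕ} [DistribMulAction (centralizer ({p} : Set G)) M]
  {π : G → M} (s : Pre T V z m p q p₁ π)
include s

theorem hp : Col V p p := s.col.left

theorem wq_le [Finite G] : ws V q ≤ centralizer ({p} : Set G) := s.cr.symm.cent s.fr

theorem com1 : Com V p₁ q := s.cr.min (m + 2) (by omega) _ _ s.pth

theorem p1_mem : p₁ ∈ ws V p := s.fr.mem_ws_of_col s.col

theorem p1_mem' : p₁ ∈ ws V p₁ := s.fr.mem_ws_self s.col.right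

theorem fix_lam {f : centralizer ({p} : Set G)} (hf : (f : G) ∈ ws V q) : f • π p₁ = π p₁ := by
  rw [← s.md.smul f _ s.p1_mem]
  congr 1
  exact NO3S.Dual.conj_eq_of_comm (s.com1 _ s.p1_mem' _ hf).symm

theorem two (m : M) : m + m = 0 := s.md.two s.fr s.hp m

theorem sub_eq (m m' : M) : m - m' = m + m' := s.md.sub_eq s.fr s.hp m m'

theorem f_sq {f : centralizer ({p} : Set G)} (hf : (f : G) ∈ ws V q) (v : M) : f • f • v = v := by
  have e : f * f = 1 := Subtype.ext (s.fr.ws_sq s.cr.path.right _ hf)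
  rw [← mul_smul, e, one_smul]

theorem moves_of_not_mem [Finite G] {f : centralizer ({p} : Set G)} (hf : (f : G) ∈ ws V q)
    (hfc : (f : G) ∉ centralizer (ws V p : Set G)) : ∃ v : M, f • v ≠ v := by
  by_contra hcon
  push Not at hcon
  apply hfc
  have h1 := s.ex.kq _ hf ((s.md.mem_kq_iff s.fr s.hp f).2 hcon)
  rw [mem_centralizer_iff]
  exact fun a ha => ((mem_ee.1 h1).2 a ha).symm

/-- `N̄ = 0` -/
theorem nb0 {v : M} (hv : v ∈ NB V p π) : v = 0 := by
  obtain ⟨a, ha, rfl⟩ := (mem_NB s.fr s.hp s.md).1 hv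
  rw [s.md.ker a ha.1]
  exact (mem_zpowers_iff_of_mul_self (s.fr.pt_sq s.hp)).1 (s.nb ha)

/-- `h` moves `λ` -/
theorem moves [Finite G] {f h : centralizer ({p} : Set G)} (hf : (f : G) ∈ ws V q)
    (i : Inv M f h) : h • π p₁ ≠ π p₁ := by
  intro e
  obtain ⟨k, hk, hkx⟩ := s.md.fix_lift s.fr s.col s.ne e
  have hk1 : ∀ v : M, k • v = v := (s.md.mem_kq_iff s.fr s.hp k).1 hk
  obtain ⟨g, hp, hx, hp1, hx1⟩ := s.col
  set c : centralizer ({p} : Set G) := k * h with hc
  have hcv : ∀ v : M, c • v = h • v := fun v => by rw [hc, mul_smul, hk1]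
  have hcv' : ∀ v : M, c⁻¹ • v = h⁻¹ • v := fun v => by
    rw [inv_smul_eq_iff, hcv, smul_inv_smul]
  -- `c ∈ C(l)`
  have hcl : (c : G) ∈ centralizer ((cj g V : Subgroup G) : Set G) := by
    rw [mem_centralizer_iff]
    intro a ha
    have e0 : (c : G) * p = p * c := mem_centralizer_singleton_iff.1 c.2
    have e1 : (c : G) * p₁ = p₁ * c := NO3S.Dual.comm_of_conj_eq hkx
    rcases TF.Md.four_cj s.fr hp hp1 hx hx1 s.ne ha with e | e | e | e
    · rw [e]; simp
    · rw [e, e0]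
    · rw [e, e1]
    · rw [e]
      calc p * p₁ * c = p * (p₁ * c) := by group
        _ = (p * c) * p₁ := by rw [← e1]; group
        _ = c * (p * p₁) := by rw [← e0]; group
  -- `f ∈ O₂(C(l))`
  have h1 : (f : G) ∈ o2 (centralizer ((cj g V : Subgroup G) : Set G)) :=
    ws_le_o2_line s.fr s.cr.min (n := m + 2) s.pth.symm hx hf
  set d : centralizer ({p} : Set G) := f * (c * f⁻¹ * c⁻¹) with hd
  have h2 : (d : G) ∈ o2 (centralizer ((cj g V : Subgroup G) : Set G)) :=
    mul_mem h1 (conj_mem_of_normalizer (le_normalizer_o2 _) hcl (inv_mem h1))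
  obtain ⟨j, hj⟩ := isPGroup_o2 _ ⟨(d : G), h2⟩
  have hj' : d ^ 2 ^ j = 1 := by
    refine Subtype.ext ?_
    have := congrArg Subtype.val hj
    rw [SubgroupClass.coe_pow, OneMemClass.coe_one] at this ⊢
    exact this
  refine i.not_two (d := d) (j := j) (fun v => ?_) (fun v => by rw [hj', one_smul])
  rw [hd, mul_smul, mul_smul, mul_smul, hcv, hcv']
  have h3 : f⁻¹ • h⁻¹ • v = h • f⁻¹ • v := by
    rw [inv_smul_eq_iff, i.conj_smul, smul_inv_smul]
  rw [h3, i.conj_smul, i.conj_smul, smul_inv_smul]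

/-- **movers** : `x = p₁^h ∼ p` with `x^f ≠ x, p x` -/
theorem exists_mover [Finite G] {f : centralizer ({p} : Set G)} (hf : (f : G) ∈ ws V q)
    (hfc : (f : G) ∉ centralizer (ws V p : Set G)) :
    ∃ h : centralizer ({p} : Set G), Inv M f h ∧ Col V p ((h : G) * p₁ * (h : G)⁻¹) ∧
      (h : G) * p₁ * (h : G)⁻¹ ≠ p ∧ f • π ((h : G) * p₁ * (h : G)⁻¹) ≠ π ((h : G) * p₁ * (h : G)⁻¹) := by
  obtain ⟨h, i⟩ := exists_inv (redM_md s.fr s.md s.col s.ne) (s.f_sq hf) (s.moves_of_not_mem hf hfc)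
  have hp0 : (h : G) * p * (h : G)⁻¹ = p :=
    NO3S.Dual.conj_eq_of_comm (mem_centralizer_singleton_iff.1 h.2)
  refine ⟨h, i, ?_, ?_, ?_⟩
  · have := s.col.conj (h : G)
    rwa [hp0] at this
  · intro e
    apply s.ne
    calc p₁ = (h : G)⁻¹ * ((h : G) * p₁ * (h : G)⁻¹) * h := by group
      _ = (h : G)⁻¹ * (h * p * (h : G)⁻¹) * h := by rw [e, hp0]
      _ = p := by group
  · rw [s.md.smul h _ s.p1_mem]
    intro e
    exact s.moves hf i (i.fix' (s.fix_lam hf) e)

/-- `C(W_{p₁})` and `C(W_x)` -/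
theorem cent_lift {x : G} {h g : centralizer ({p} : Set G)} (hx : x = (h : G) * p₁ * (h : G)⁻¹)
    (hg : (g : G) ∈ centralizer (ws V p₁ : Set G)) :
    ((h * g * h⁻¹ : centralizer ({p} : Set G)) : G) ∈ centralizer (ws V x : Set G) := by
  rw [mem_centralizer_iff] at hg ⊢
  intro a ha
  have h1 : (h : G)⁻¹ * a * h ∈ ws V p₁ := by
    have := conj_mem_ws (h : G)⁻¹ ha
    have e : (h : G)⁻¹ * x * (h : G)⁻¹⁻¹ = p₁ := by rw [hx]; group
    rwa [e, inv_inv] at this
  have h2 := hg _ h1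
  change a * ((h : G) * g * (h : G)⁻¹) = (h : G) * g * (h : G)⁻¹ * a
  calc a * ((h : G) * g * (h : G)⁻¹) = h * ((h : G)⁻¹ * a * h * g) * (h : G)⁻¹ := by group
    _ = (h : G) * g * (h : G)⁻¹ * a := by rw [h2]; group

/-- **(1.1)** for `N_p = p` -/
theorem one_one [Finite G] {f h : centralizer ({p} : Set G)} {x : G} (hf : (f : G) ∈ ws V q)
    (i : Inv M f h) (hx : x = (h : G) * p₁ * (h : G)⁻¹) (hcol : Col V p x) (hxp : x ≠ p)
    (hmv : f • π x ≠ π x) (hD : ¬ ws V x ⊓ ws V ((f : G) * x * (f : G)⁻¹) ≤ ws V p) :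
    f • π x = π x + π p₁ ∧ ∀ g : centralizer ({p} : Set G), (g : G) ∈ centralizer (ws V p₁ : Set G) →
      g • π x = π x ∨ g • π x = π x + π p₁ := by
  have two := s.two
  have hl0 : π p₁ ≠ 0 := s.md.pt_ne_zero s.fr s.col s.ne
  have hxw : x ∈ ws V p := s.fr.mem_ws_of_col hcol
  have hmu : π x = h • π p₁ := by rw [hx]; exact s.md.smul h _ s.p1_mem
  set x' := (f : G) * x * (f : G)⁻¹ with hx'
  have hxw' : x' ∈ ws V p := conj_mem_ws_of_mem f.2 hxw
  have hnu : π x' = f • π x := s.md.smul f x hxw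
  have hff : f • π x' = π x := by rw [hnu, s.f_sq hf]
  rw [← hnu] at hmv
  rw [← hnu]
  set mu := π x with hmudef
  set nu := π x' with hnudef
  set lam := π p₁ with hlam
  have hfl : f • lam = lam := s.fix_lam hf
  have hcN : mu + nu ≠ 0 := by
    intro h2
    apply hmv
    rw [← s.sub_eq, sub_eq_zero] at h2
    exact h2.symm
  have hmu0 : mu ≠ 0 := by
    rw [hmu]
    exact fun e => hl0 ((smul_eq_zero_iff_eq h).1 e)
  have hnu0 : nu ≠ 0 := by
    intro e
    rw [e, smul_zero] at hff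
    exact hmu0 hff.symm
  -- (S)
  have hcolx' : Col V p x' := by
    have := hcol.conj (f : G)
    rwa [NO3S.Dual.conj_eq_of_comm (mem_centralizer_singleton_iff.1 f.2)] at this
  have hx'p : x' ≠ p := by
    intro e
    apply hxp
    have e0 : (f : G)⁻¹ * p * f = p := by
      have := mem_centralizer_singleton_iff.1 f.2
      rw [mul_assoc, ← this, inv_mul_cancel_left]
    calc x = (f : G)⁻¹ * x' * f := by rw [hx']; group
      _ = p := by rw [e, e0]
  have hS := (s.fr.lemD hcol hcolx' hxp hx'p).resolve_left hD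
  set P := AddSubgroup.closure {mu, nu} ⊔ NB V p π with hP
  have hmuP : mu ∈ P := (le_sup_left : _ ≤ P) (AddSubgroup.subset_closure (Or.inl rfl))
  have hnuP : nu ∈ P := (le_sup_left : _ ≤ P) (AddSubgroup.subset_closure (Or.inr rfl))
  have hNP : NB V p π ≤ P := le_sup_right
  have hpre : closure {x, x'} ⊔ nn (ws V p) (kq V p) ≤ pre s.md P := by
    refine sup_le ?_ fun a ha => ⟨ha.1, hNP ((mem_NB s.fr s.hp s.md).2 ⟨a, ha, rfl⟩)⟩
    rw [closure_le]
    rintro a (rfl | rfl)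
    · exact ⟨hxw, hmuP⟩
    · exact ⟨hxw', hnuP⟩
  have hgen : ∀ g : centralizer ({p} : Set G), (g • mu ∈ P) → (g • nu ∈ P) → ∀ v ∈ P, g • v ∈ P := by
    intro g h1 h2
    have h3 : P ≤ P.comap (DistribSMul.toAddMonoidHom M g) := by
      rw [hP, sup_le_iff, AddSubgroup.closure_le]
      refine ⟨?_, fun v hv => hNP (smul_mem_NB s.fr s.hp s.md g hv)⟩
      rintro v (rfl | rfl)
      · exact h1
      · exact h2
    exact fun v hv => h3 hv
  have hcx : ∀ g : centralizer ({p} : Set G), (g : G) ∈ centralizer (ws V x : Set G) →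
      g • mu = mu ∧ g • nu ∈ P := by
    intro g hg
    have h1 := hS g ((le_sup_left : centralizer (ws V x : Set G) ≤ _) hg)
    constructor
    · rw [hmudef, ← s.md.smul g x hxw]
      congr 1
      exact NO3S.Dual.conj_eq_of_comm (mem_centralizer_iff.1 hg x (s.fr.mem_ws_self hcol.right)).symm
    · have h2 := (hpre h1.2).2
      rw [s.md.smul g x' hxw'] at h2
      exact h2
  have h1 : ∀ v ∈ P, f • v ∈ P := hgen f (by rw [← hnu]; exact hnuP) (by rw [hff]; exact hmuP)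
  have h2 : ∀ v ∈ P, h • f • h⁻¹ • v ∈ P := by
    intro v hv
    have hfc : (f : G) ∈ centralizer (ws V p₁ : Set G) := by
      rw [mem_centralizer_iff]
      exact fun a ha => s.com1 a ha _ hf
    obtain ⟨h3, h4⟩ := hcx _ (s.cent_lift hx hfc)
    have h5 := hgen (h * f * h⁻¹) (by rw [h3]; exact hmuP) h4 v hv
    rwa [mul_smul, mul_smul] at h5
  obtain ⟨-, h4⟩ := i.pres (s.f_sq hf) h1 h2
  have four : ∀ v ∈ P, v = 0 ∨ v = mu ∨ v = nu ∨ v = mu + nu := by
    intro v hv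
    obtain ⟨w, hw, e⟩ := St.mem_sup4 two hv
    rw [s.nb0 hw, add_zero, add_zero, add_zero] at e
    exact e
  have hlP : lam ∈ P := by
    have := h4 _ hmuP
    rwa [hmu, inv_smul_smul] at this
  have hlam' : nu = mu + lam := by
    rcases four _ hlP with e | e | e | e
    · exact absurd e hl0
    · exfalso
      apply hmv
      rw [hnu, ← e, hfl]
    · exfalso
      apply hmv
      rw [← hff, ← e, hfl]
    · rw [e, ← add_assoc, two, zero_add]
  refine ⟨hlam', ?_⟩
  -- `[nu, C(W_x)] ≤ ⟨mu⟩`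
  have h5 : ∀ g : centralizer ({p} : Set G), (g : G) ∈ centralizer (ws V x : Set G) →
      g • nu = nu ∨ g • nu = nu + mu := by
    intro g hg
    obtain ⟨h6, h7⟩ := hcx g hg
    rcases four _ h7 with e | e | e | e
    · exact absurd ((smul_eq_zero_iff_eq g).1 e) hnu0
    · exfalso
      apply hcN
      rw [← smul_eq_zero_iff_eq g, smul_add, h6, e, two]
    · exact Or.inl e
    · exact Or.inr (by rw [e, add_comm])
  intro g hg
  have hgl : g • lam = lam := by
    rw [hlam, ← s.md.smul g _ s.p1_mem]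
    congr 1
    exact NO3S.Dual.conj_eq_of_comm (mem_centralizer_iff.1 hg _ s.p1_mem').symm
  -- for `κ = h⁻¹ • nu`
  have h8 : g • h⁻¹ • nu = h⁻¹ • nu ∨ g • h⁻¹ • nu = h⁻¹ • nu + lam := by
    rcases h5 _ (s.cent_lift hx hg) with e | e
    · left
      rw [mul_smul, mul_smul] at e
      calc g • h⁻¹ • nu = h⁻¹ • h • g • h⁻¹ • nu := by rw [inv_smul_smul]
        _ = h⁻¹ • nu := by rw [e]
    · right
      rw [mul_smul, mul_smul] at e
      calc g • h⁻¹ • nu = h⁻¹ • h • g • h⁻¹ • nu := by rw [inv_smul_smul]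
        _ = h⁻¹ • nu + lam := by rw [e, smul_add, hmu, inv_smul_smul]
  rcases four _ (h4 _ hnuP) with e | e | e | e
  · exact absurd ((smul_eq_zero_iff_eq h⁻¹).1 e) hnu0
  · rwa [e] at h8
  · rw [e, hlam', smul_add, hgl] at h8
    rcases h8 with h8 | h8
    · left; exact add_right_cancel h8
    · right; exact add_right_cancel h8
  · exfalso
    apply hmv
    have e1 : h⁻¹ • nu = lam := by
      rw [e, hlam', ← add_assoc, two, zero_add]
    rw [← smul_inv_smul h nu, e1, ← hmu]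

/-- **(1.2)** for `N_p = p`: without special points `[M_p, W_q] ≤ ⟨λ⟩` -/
theorem all [Finite G] (hcon : ¬ ∃ x, Sp V p q x) (v : M) {b : centralizer ({p} : Set G)}
    (hb : (b : G) ∈ ws V q) : b • v = v ∨ b • v = v + π p₁ := by
  classical
  have two := s.two
  have hl0 : π p₁ ≠ 0 := s.md.pt_ne_zero s.fr s.col s.ne
  let ML : AddSubgroup M :=
    { carrier := {v | ∀ g : centralizer ({p} : Set G), (g : G) ∈ centralizer (ws V p₁ : Set G) →
        g • v - v = 0 ∨ g • v - v = π p₁}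
      zero_mem' := fun g _ => by rw [smul_zero, sub_zero]; exact Or.inl rfl
      add_mem' := fun {a b} ha hb g hg => by
        have e : g • (a + b) - (a + b) = (g • a - a) + (g • b - b) := by rw [smul_add]; abel
        rw [e]
        rcases ha g hg with e1 | e1 <;> rcases hb g hg with e2 | e2 <;> rw [e1, e2]
        · left; rw [add_zero]
        · right; rw [zero_add]
        · right; rw [add_zero]
        · left; rw [two]
      neg_mem' := fun {a} ha g hg => by
        have e : g • (-a) - (-a) = -(g • a - a) := by rw [smul_neg]; abel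
        rw [e]
        rcases ha g hg with e1 | e1 <;> rw [e1]
        · left; rw [neg_zero]
        · right; rw [s.md.neg_eq s.fr s.hp] }
  set X := pre s.md ML with hX
  set E := ee V p q with hE
  set E' := ee V q p with hE'
  have hXw : X ≤ ws V p := fun a ha => ha.1
  have hEw : E ≤ ws V p := fun a ha => (mem_ee.1 ha).1
  have hE'w : E' ≤ ws V q := fun a ha => (mem_ee.1 ha).1
  let lft : ws V q → centralizer ({p} : Set G) := fun b => ⟨b, s.wq_le b.2⟩
  -- `δ ∈ {0, λ}`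
  have hδ : ∀ (a : G) (b : ws V q), a ∈ X → lft b • π a - π a = 0 ∨ lft b • π a - π a = π p₁ := by
    intro a b ha
    have hbc : (lft b : G) ∈ centralizer (ws V p₁ : Set G) := by
      rw [mem_centralizer_iff]
      exact fun w hw => s.com1 w hw _ b.2
    exact ha.2 (lft b) hbc
  have hfl : ∀ b : ws V q, lft b • π p₁ = π p₁ := fun b => s.fix_lam b.2
  have hmulsgn : ∀ α β : M, (α = 0 ∨ α = π p₁) → (β = 0 ∨ β = π p₁) →
      (if α + β = 0 then (1 : ℤˣ) else -1) = (if α = 0 then (1 : ℤˣ) else -1) * (if β = 0 then (1 : ℤˣ) else -1) := by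
    rintro α β (rfl | rfl) (rfl | rfl)
    · simp
    · simp
    · simp
    · rw [if_pos (two _), if_neg hl0]
      rfl
  have h1 := pairing_units (A := X) (B := ws V q)
    (fun a b => if lft b • π (a : G) - π (a : G) = 0 then (1 : ℤˣ) else -1)
    (fun a a' b => by
      rw [← hmulsgn _ _ (hδ a b a.2) (hδ a' b a'.2)]
      congr 2
      change lft b • π ((a : G) * a') - π ((a : G) * a') = _
      rw [s.md.map_mul _ a.2.1 _ a'.2.1, smul_add]
      abel)
    (fun a b b' => by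
      rw [← hmulsgn _ _ (hδ a b a.2) (hδ a b' a.2)]
      congr 2
      have e : lft (b * b') = lft b * lft b' := rfl
      rw [e, mul_smul]
      have e1 : lft b • (lft b' • π (a : G) - π (a : G)) = lft b' • π (a : G) - π (a : G) := by
        rcases hδ a b' a.2 with e | e
        · rw [e, smul_zero]
        · rw [e, hfl]
      have e2 : lft b • lft b' • π (a : G) - π (a : G) =
          lft b • (lft b' • π (a : G) - π (a : G)) + (lft b • π (a : G) - π (a : G)) := by
        rw [smul_sub]; abel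
      rw [e2, e1, add_comm])
  -- the left kernel
  have h2 : Nat.card (X ⊓ E : Subgroup G) ≤
      Nat.card {a : X // ∀ b, (if lft b • π (a : G) - π (a : G) = 0 then (1 : ℤˣ) else -1) = 1} := by
    refine Nat.card_le_card_of_injective
      (fun a : (X ⊓ E : Subgroup G) => ⟨⟨a.1, a.2.1⟩, fun b => ?_⟩) ?_
    · refine if_pos ?_
      have h3 := (mem_ee.1 a.2.2).2 b b.2
      change lft b • π (a : G) - π (a : G) = 0
      rw [← s.md.smul (lft b) a a.2.1.1, sub_eq_zero]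
      congr 1
      exact NO3S.Dual.conj_eq_of_comm h3.symm
    · intro a a' e
      exact Subtype.ext (congrArg (fun t => (t.1 : G)) e)
  -- the right kernel
  have h3 : Nat.card {b : ws V q // ∀ a : X,
      (if lft b • π (a : G) - π (a : G) = 0 then (1 : ℤˣ) else -1) = 1} ≤ Nat.card E' := by
    refine Nat.card_le_card_of_injective (fun b => ⟨b.1, ?_⟩) ?_
    · by_contra hb
      have hbc : ((lft b.1 : centralizer ({p} : Set G)) : G) ∉ centralizer (ws V p : Set G) := by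
        intro h4
        apply hb
        rw [hE', mem_ee]
        exact ⟨b.1.2, fun a ha => (mem_centralizer_iff.1 h4 a ha).symm⟩
      obtain ⟨h, i, hcol, hxp, hmv⟩ := s.exists_mover (f := lft b.1) b.1.2 hbc
      have hxw : ((h : G) * p₁ * (h : G)⁻¹) ∈ ws V p := s.fr.mem_ws_of_col hcol
      obtain ⟨h5, h6⟩ := s.one_one b.1.2 i rfl hcol hxp hmv (fun hD => hcon
        ⟨_, hcol.symm, (b.1 : G), b.1.2, fun e => hmv (by
          rw [← s.md.smul (lft b.1) _ hxw]
          congr 1), hD⟩)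
      have h7 : ((h : G) * p₁ * (h : G)⁻¹) ∈ X := ⟨hxw, fun g hg => by
        rcases h6 g hg with e | e
        · left; rw [e, sub_self]
        · right; rw [e, add_sub_cancel_left]⟩
      have h8 := b.2 ⟨_, h7⟩
      have h9 : ¬ (lft b.1 • π ((h : G) * p₁ * (h : G)⁻¹) - π ((h : G) * p₁ * (h : G)⁻¹) = 0) := by
        rw [h5, add_sub_cancel_left]
        exact hl0
      rw [if_neg h9] at h8
      exact absurd h8 (by decide)
    · intro b b' e
      have e1 : ((b.1 : ws V q) : G) = b'.1 := congrArg (fun t : E' => (t : G)) e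
      exact Subtype.ext (Subtype.ext e1)
  -- the count
  have hcX : Nat.card (X ⊓ E : Subgroup G) * E.relIndex X = Nat.card X := by
    rw [← inf_relIndex_left]
    exact NO3S.Dual.card_mul_relIndex_of_le inf_le_left
  have hcW : Nat.card E' * E'.relIndex (ws V q) = Nat.card (ws V q) :=
    NO3S.Dual.card_mul_relIndex_of_le hE'w
  have hr : E.relIndex (ws V p) ≤ E.relIndex X := by
    rw [hE, s.ex.card, ← hE']
    have h4 : Nat.card (X ⊓ E : Subgroup G) * Nat.card E' * E'.relIndex (ws V q) ≤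
        Nat.card (X ⊓ E : Subgroup G) * Nat.card E' * E.relIndex X := by
      calc Nat.card (X ⊓ E : Subgroup G) * Nat.card E' * E'.relIndex (ws V q) =
          Nat.card (X ⊓ E : Subgroup G) * Nat.card (ws V q) := by rw [mul_assoc, hcW]
        _ ≤ _ * Nat.card (ws V q) := Nat.mul_le_mul_right _ h2
        _ = Nat.card X * _ := h1
        _ ≤ Nat.card X * Nat.card E' := Nat.mul_le_mul_left _ h3
        _ = Nat.card (X ⊓ E : Subgroup G) * Nat.card E' * E.relIndex X := by rw [← hcX]; ring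
    exact Nat.le_of_mul_le_mul_left h4 (Nat.mul_pos Nat.card_pos Nat.card_pos)
  have hXE : ws V p ≤ X ⊔ E := by
    rw [← relIndex_eq_one]
    have e1 := relIndex_mul_relIndex E (X ⊔ E) (ws V p) le_sup_right (sup_le hXw hEw)
    have e2 : E.relIndex X ≤ E.relIndex (X ⊔ E) :=
      relIndex_le_of_le_right le_sup_left index_ne_zero_of_finite
    have e3 : E.relIndex (X ⊔ E) ≠ 0 := index_ne_zero_of_finite
    have e4 : (X ⊔ E).relIndex (ws V p) ≠ 0 := index_ne_zero_of_finite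
    have e5 : E.relIndex (X ⊔ E) * (X ⊔ E).relIndex (ws V p) ≤ E.relIndex (X ⊔ E) * 1 := by
      rw [e1, mul_one]; omega
    have e6 := Nat.le_of_mul_le_mul_left e5 (Nat.pos_of_ne_zero e3)
    omega
  obtain ⟨a, ha, rfl⟩ := s.md.surj v
  obtain ⟨c, hc, e, he, rfl⟩ := NO3S.Dual.mem_sup_of_comm (s.fr.ws_comm s.hp) hXw hEw (hXE ha)
  have h4 : b • π e = π e := by
    rw [← s.md.smul b e (hEw he)]
    congr 1
    exact NO3S.Dual.conj_eq_of_comm ((mem_ee.1 he).2 b hb).symm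
  rw [s.md.map_mul c hc.1 e (hEw he), smul_add, h4]
  have h5 : lft ⟨b, hb⟩ = b := rfl
  rcases hδ c ⟨b, hb⟩ hc with e1 | e1 <;> rw [h5] at e1
  · left
    rw [sub_eq_zero.1 e1]
  · right
    rw [sub_eq_iff_eq_add.1 e1]
    abel

end Pre

section main

variable {T V : Subgroup G} {z p q : G} {m n : ℕ}

/-- **THEOREM S** : an exact critical pair with `x^b ≠ p x`, `N_p = p`, has a special point. -/
theorem exists_sp [Finite G] (h : Fr T V z) (hc : Cr V (m + 3) p q) (hex : Exact V p q)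
    (nm : ∀ x, Col V x p → x ≠ p → ∀ b ∈ ws V q, b * x * b⁻¹ ≠ p * x)
    (hN : nn (ws V p) (kq V p) ≤ zpowers p) : ∃ x, Sp V p q x := by
  by_contra hcon
  have hp : Col V p p := hc.path.left
  have hq : Col V q q := hc.path.right
  obtain ⟨p₁, g, h1, h2, h3, h4, h5, h6, -⟩ := Cr.last (n := m + 2) h hc.symm
  have hmp := md_MM h hp
  have hmq := md_MM h hq
  have s : Pre T V z m p q p₁ (pim V p) := ⟨h, hc, Col.of_mem h3 h2 h5 h4, h6, h1.symm, hex, nm, hmp, hN⟩
  have hpp := h.pt_sq hp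
  have h11 := h.pt_sq s.col.right
  have hpp1 : p * p₁ = p₁ * p := h.col_comm s.col
  -- a point moved by `W_q`
  obtain ⟨x, b₀, hx, hb₀, hxb⟩ : ∃ x b, Col V p x ∧ b ∈ ws V q ∧ b * x * b⁻¹ ≠ x := by
    by_contra hcon
    push Not at hcon
    apply hc.ne
    have h7 : ws V p ≤ centralizer (ws V q : Set G) := by
      refine ws_le fun L hL a ha => ?_
      obtain ⟨⟨k, rfl⟩, hpL⟩ := hL
      rw [mem_centralizer_iff]
      intro b hb
      by_cases ha1 : a = 1
      · rw [ha1]; simp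
      exact NO3S.Dual.comm_of_conj_eq (hcon a b (Col.of_mem hpL ha h5 ha1) hb)
    exact fun a ha b hb => (mem_centralizer_iff.1 (h7 ha) b hb).symm
  have hxw : x ∈ ws V p := h.mem_ws_of_col hx
  have hxp : x ≠ p := by
    intro e
    apply hxb
    rw [e]
    exact NO3S.Dual.conj_eq_of_comm (mem_centralizer_singleton_iff.1 (s.wq_le hb₀))
  have hxx := h.pt_sq hx.right
  -- `[x, W_q] ≤ {1, p₁, p p₁}`
  have key : ∀ b ∈ ws V q, b * x * b⁻¹ = x ∨ b * x * b⁻¹ = p₁ * x ∨ b * x * b⁻¹ = p * p₁ * x := by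
    intro b hb
    have hbc := s.wq_le hb
    have hw : b * x * b⁻¹ ∈ ws V p := conj_mem_ws_of_mem hbc hxw
    have e1 : pim V p (b * x * b⁻¹) = (⟨b, hbc⟩ : centralizer ({p} : Set G)) • pim V p x := hmp.smul ⟨b, hbc⟩ x hxw
    rcases s.all hcon (pim V p x) (b := ⟨b, hbc⟩) hb with e | e
    · rw [e] at e1
      rcases (hmp.eq_iff h hp hw hxw).1 e1 with e2 | e2
      · exact Or.inl e2
      · exact absurd e2 (nm x hx.symm hxp b hb)
    · rw [e, add_comm, ← hmp.map_mul _ s.p1_mem _ hxw] at e1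
      rcases (hmp.eq_iff h hp hw (mul_mem s.p1_mem hxw)).1 e1 with e2 | e2
      · exact Or.inr (Or.inl e2)
      · exact Or.inr (Or.inr (by rw [e2, mul_assoc]))
  -- `W_q` centralises `p`, `p₁`
  have hbp : ∀ b ∈ ws V q, b * p = p * b := fun b hb => mem_centralizer_singleton_iff.1 (s.wq_le hb)
  have hbp1 : ∀ b ∈ ws V q, b * p₁ = p₁ * b := fun b hb => (s.com1 _ s.p1_mem' b hb).symm
  -- the centre
  obtain ⟨e, he, hcol, hpe, hee, hall⟩ : ∃ e : G, b₀ * x * b₀⁻¹ = e * x ∧ Col V p e ∧ pim V p e = pim V p p₁ ∧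
      (∀ b ∈ ws V q, b * e = e * b) ∧ ∀ b ∈ ws V q, b * x * b⁻¹ = x ∨ b * x * b⁻¹ = e * x := by
    have hne : p * p₁ ≠ 1 := by
      intro e
      apply h6
      calc p₁ = p * p * p₁ := by rw [hpp, one_mul]
        _ = p := by rw [mul_assoc, e, mul_one]
    have hbb : ∀ b ∈ ws V q, ∀ e e' : G, b₀ * x * b₀⁻¹ = e * x → b * x * b⁻¹ = e' * x → b * e = e * b →
        e * e' ≠ p := by
      intro b hb e e' h7 h8 h9 h10
      apply nm x hx.symm hxp _ (mul_mem hb hb₀)
      calc b * b₀ * x * (b * b₀)⁻¹ = b * (b₀ * x * b₀⁻¹) * b⁻¹ := by group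
        _ = (b * e) * x * b⁻¹ := by rw [h7]; group
        _ = e * (b * x * b⁻¹) := by rw [h9]; group
        _ = p * x := by rw [h8, ← mul_assoc, h10]
    rcases key b₀ hb₀ with e1 | e1 | e1
    · exact absurd e1 hxb
    · refine ⟨p₁, e1, s.col, rfl, hbp1, fun b hb => ?_⟩
      rcases key b hb with e2 | e2 | e2
      · exact Or.inl e2
      · exact Or.inr e2
      · refine absurd ?_ (hbb b hb p₁ (p * p₁) e1 e2 (hbp1 b hb))
        rw [hpp1, ← mul_assoc, h11, one_mul]
    · refine ⟨p * p₁, e1, Col.of_mem h3 (mul_mem h3 h2) h5 hne, ?_, ?_, fun b hb => ?_⟩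
      · exact (hmp.eq_iff h hp (mul_mem (h.mem_ws_self hp) s.p1_mem) s.p1_mem).2 (Or.inr rfl)
      · intro b hb
        rw [← mul_assoc, hbp b hb, mul_assoc, hbp1 b hb, mul_assoc]
      · rcases key b hb with e2 | e2 | e2
        · exact Or.inl e2
        · refine absurd ?_ (hbb b hb (p * p₁) p₁ e1 e2 ?_)
          · rw [mul_assoc, h11, mul_one]
          · rw [← mul_assoc, hbp b hb, mul_assoc, hbp1 b hb, mul_assoc]
        · exact Or.inr e2
  have he1 : e ≠ 1 := hcol.right.ne_one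
  have hepw : e ∈ ws V p := h.mem_ws_of_col hcol
  have hesq : e * e = 1 := h.pt_sq hcol.right
  have hep : e ≠ p := by
    intro e2
    exact nm x hx.symm hxp b₀ hb₀ (by rw [he, e2])
  have heqw : e ∈ ws V q := by
    have h7 := inv_mem (hc.comm_mem_right h hxw hb₀)
    have e2 : (x * b₀ * x⁻¹ * b₀⁻¹)⁻¹ = b₀ * x * b₀⁻¹ * x⁻¹ := by group
    rwa [e2, he, mul_inv_cancel_right] at h7
  have heq : e ≠ q := by
    intro e2
    have h7 : Pth V 1 p q := by rw [← e2]; exact Pth.of_col hcol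
    exact hc.ne (hc.min 1 (by omega) _ _ h7)
  -- `x` is a transvection of `M_q`
  have hs := tr_of_comm hmq (hc.cent h hxw) heqw he1 heq (fun b hb => by
    rcases hall b hb with e2 | e2
    · left
      exact NO3S.Dual.conj_eq_of_comm (NO3S.Dual.comm_of_conj_eq e2).symm
    · right
      have h7 : b * x = e * x * b := by rw [← e2]; group
      calc x * b * x⁻¹ = e * (e * x * b) * x⁻¹ := by
            rw [mul_assoc e x b, ← mul_assoc e e, hesq, one_mul]
        _ = e * b := by rw [← h7]; group) ⟨b₀, hb₀, fun e2 => hxb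
          (NO3S.Dual.conj_eq_of_comm (NO3S.Dual.comm_of_conj_eq e2).symm)⟩
  -- `b₀` is a transvection of `M_p`
  have ht : Tr (H := centralizer ({p} : Set G)) (pim V p e) ⟨b₀, s.wq_le hb₀⟩ :=
    ⟨fun v => by rw [hpe]; exact s.all hcon v hb₀, pim V p x, by
      rw [← hmp.smul ⟨b₀, s.wq_le hb₀⟩ x hxw]
      change pim V p (b₀ * x * b₀⁻¹) ≠ _
      intro e2
      rcases (hmp.eq_iff h hp (conj_mem_ws_of_mem (s.wq_le hb₀) hxw) hxw).1 e2 with e3 | e3
      · exact hxb e3
      · exact nm x hx.symm hxp b₀ hb₀ e3⟩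
  obtain ⟨k, hk⟩ := h.exists_conj hp hq
  have ht' := Tr.transport h hp hmp hmq hk hepw ht
  have hcol' : Col V q (k * e * k⁻¹) := by
    have := hcol.conj k
    rwa [hk] at this
  have hne' : k * e * k⁻¹ ≠ q := by
    intro e1
    rw [← hk] at e1
    exact hep (mul_left_cancel (mul_right_cancel e1))
  have hqe := col_of_tr h hmq hcol' hne' ht' heqw he1 heq hs
  have hpath : Pth V 2 p q := (Pth.of_col hcol).step hqe.symm
  exact hc.ne (hc.min 2 (by omega) p q hpath)

/-- **a goal pair exists** if `N_p = p` for all points -/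
theorem exists_goal [Finite G] (h : Fr T V z)
    (hNO : LemmaM.NoOver (NO3S.TwoFar.inc (V := V)) NO3S.TwoFar.RR NO3S.TwoFar.WS NO3S.TwoFar.VL)
    (hN : ∀ p, Col V p p → nn (ws V p) (kq V p) ≤ zpowers p) (hex : ∃ p q, Cr V (m + 3) p q) :
    ∃ p x q, Goal V (m + 3) p x q :=
  MPlus.exists_goal_one h (by omega) hNO
    (fun hE hnm p q hc => exists_sp h hc (hE p q hc) (hnm p q hc) (hN p hc.path.left)) hex

end main

end Cfsg.Agent.Omega.NOThree.LL

end

end

-- merged: Cfsg.Agent.Mrg.Omega.NOThree.LL.NoGr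
section

section


/-!
# TwoFar, THEOREM LL (#18157): there is no grandchild

* `Free V m y` : no element of `R = [W_p, W_q]` is a point collinear with `p` (section 3 for the grandchildren);
* `no_gr_of` : sections 4, 5.
-/

set_option autoImplicit false
set_option linter.unusedSectionVars false

namespace Cfsg.Agent.Omega.NOThree.LL

open Subgroup Cfsg Cfsg.Agent.ZN Cfsg.Agent.MinSimple.Geo Cfsg.Agent.Omega.CaseL Cfsg.Agent.Omega.NO3S.TwoOne
open Cfsg.Agent.Omega.NO3S.Pt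
open Cfsg.Agent.Omega.NO3S.TwoMid (rr comm_mem_rr rr_comm)
open Cfsg.Agent.Omega.NOThree.SecOne (Exact ee mem_ee)
open Cfsg.Agent.Omega.NOThree.TF (Md conj_mem_ws_of_mem MM pim md_MM)
open Cfsg.Agent.Omega.NOThree.LemmaM (NoOver)

universe u

variable {G : Type u} [Group G] {T V : Subgroup G} {z : G} {m : ℕ} {y : ℕ → G}

/-- no element of `R = [W_p, W_q]` is a point collinear with `p` -/
def Free (V : Subgroup G) (m : ℕ) (y : ℕ → G) : Prop := ∀ e ∈ rr V (y 0) (y (m + 3)), ¬ Col V (y 0) e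

/-- the output of THEOREM ONE -/
theorem trAt_of [Finite G] (s : St T V z m y (pim V (y 0))) (hno : NoHP V (y 0) (pim V (y 0))) (free : Free V m y) :
    TrAt V m y := by
  obtain ⟨g, hp, hx, hp1, hx1⟩ := s.gg.col0
  obtain ⟨U, hU⟩ := TF.Md.exists_U s.fr s.md hp hp1
  obtain ⟨t, c, h1, h2, h3, h4⟩ := s.exists_tr hno free hp hx hU
  exact ⟨g, t, c, hp, hx, h1, h2, (hU c).1 h3, h4⟩

/-- (1.1) for the free pairs: every `f` has a mover with (D) -/
theorem mover_of_free [Finite G] (s : St T V z m y (pim V (y 0))) (free : Free V m y) {f : G}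
    (hf : f ∈ ws V (y (m + 3))) (hfE : f ∉ ee V (y (m + 3)) (y 0)) : ∃ x, Mv V (m + 3) y x f ∧ DD V (y 0) x f := by
  rcases s.mover_or hf (fun hc => hfE (mem_ee.2 ⟨hf, fun b hb => mem_centralizer_iff.1 hc b hb |>.symm⟩)) with h1 | h1
  · exact h1
  · exfalso
    obtain ⟨g, hp, hx, hp1, hx1⟩ := s.gg.col0
    rcases h1 with h1 | h1
    · exact free _ h1 s.gg.col0
    · refine free _ h1 (Col.of_mem hp (mul_mem hp hx) hp1 fun e => ?_)
      apply s.ne1
      calc y 1 = y 0 * y 0 * y 1 := by rw [s.fr.pt_sq s.hp, one_mul]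
        _ = y 0 := by rw [mul_assoc, e, mul_one]

/-- **there is no grandchild** -/
theorem no_gr_of [Finite G] (hf : Fr T V z)
    (hNO : NoOver (NO3S.TwoFar.inc (V := V)) NO3S.TwoFar.RR NO3S.TwoFar.WS NO3S.TwoFar.VL)
    (hno : ∀ p, Col V p p → NoHP V p (pim V p)) (hfree : ∀ y, Gr V m y → Free V m y) (y : ℕ → G) : ¬ Gr V m y := by
  have key : ∀ y, Gr V m y → St T V z m y (pim V (y 0)) := fun y h =>
    ⟨hf, hNO, h.gg, md_MM hf h.gg.cr.path.left⟩
  have key' : ∀ y, Gr V m y → TrAt V m y := fun y h =>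
    trAt_of (key y h) (hno _ h.gg.cr.path.left) (hfree y h)
  refine no_gr hf hNO (fun y h => blockAt_of_tr hf h.gg (key' y h)) (fun y h => ?_) (fun y h f hfq hfE => ?_) y
  · exact two_of_tr hf h.gg (key' y h) fun a ha b hb => hfree y h _ (comm_mem_rr ha hb)
  · exact mover_of_free (key y h) (hfree y h) hfq hfE

end Cfsg.Agent.Omega.NOThree.LL

end

section


/-!
# TwoFar, THEOREM LL (#18157): (2.2) and section 3

* `Child.rr_le` (2.2) : `R_x ≤ W_x ∩ W_p ∩ W_{q'} ∩ W_{x^f} ∩ W_{y 1}`, `Child.not_mem` : `x p ∉ R_x`;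
* `Gr.free` (section 3) : a grandchild is free.
-/

set_option autoImplicit false
set_option linter.unusedSectionVars false

namespace Cfsg.Agent.Omega.NOThree.LL

open Subgroup Cfsg Cfsg.Agent.ZN Cfsg.Agent.MinSimple.Geo Cfsg.Agent.Omega.CaseL Cfsg.Agent.Omega.NO3S.TwoOne
open Cfsg.Agent.Omega.NO3S.Pt
open Cfsg.Agent.Omega.NO3S.TwoMid (rr comm_mem_rr rr_comm)

universe u

variable {G : Type u} [Group G] {T V : Subgroup G} {z : G} {m : ℕ} {y : ℕ → G} {x f x' f' : G}

/-- `[W_p, W_q] ≤ W_p` for critical pairs -/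
theorem rr_le_left [Finite G] {n : ℕ} {p q : G} (h : Fr T V z) (hc : Cr V (n + 1) p q) : rr V p q ≤ ws V p := by
  unfold NO3S.TwoMid.rr
  rw [closure_le]
  rintro _ ⟨a, ha, b, hb, rfl⟩
  exact hc.comm_mem_left h ha hb

theorem rr_le_right [Finite G] {n : ℕ} {p q : G} (h : Fr T V z) (hc : Cr V (n + 1) p q) : rr V p q ≤ ws V q := by
  unfold NO3S.TwoMid.rr
  rw [closure_le]
  rintro _ ⟨a, ha, b, hb, rfl⟩
  exact hc.comm_mem_right h ha hb

theorem GG.rr_le_one {n : ℕ} (gg : GG V n y) : rr V (y 0) (y n) ≤ ws V (y 1) := by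
  unfold NO3S.TwoMid.rr
  rw [closure_le]
  rintro _ ⟨a, ha, b, hb, rfl⟩
  exact gg.le a ha b hb

/-- (2.2), the first part -/
theorem Child.rr_le [Finite G] (h : Fr T V z) (gg : GG V (m + 3) y) (c : Child V m y x f) {e : G}
    (he : e ∈ rr V x (y (m + 2))) :
    e ∈ ws V x ∧ e ∈ ws V (y 0) ∧ e ∈ ws V (y (m + 2)) ∧ f * e = e * f ∧ e ∈ ws V (y 1) := by
  have h1 : e ∈ ws V x := rr_le_left h c.gg.cr he
  have h2 : e ∈ ws V (y (m + 2)) := rr_le_right h c.gg.cr he
  have h3 : e ∈ ws V (y 0) := c.gg.rr_le_one he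
  have h4 : f * e = e * f :=
    (gg.com (i := m + 2) (j := m + 3) (by omega) le_rfl (by omega) (by omega) e h2 f c.mv.mem).symm
  exact ⟨h1, h3, h2, h4, c.mv.cen e h1 h3 h4⟩

/-- (2.2), the second part -/
theorem Child.not_mem [Finite G] (h : Fr T V z) (gg : GG V (m + 3) y) (c : Child V m y x f) :
    x * y 0 ∉ rr V x (y (m + 2)) := by
  intro he
  obtain ⟨-, -, -, -, h5⟩ := c.rr_le h gg he
  have h6 : y 0 ∈ ws V (y 1) := h.mem_ws_of_col gg.col0.symm
  have h7 : x ∈ ws V (y 1) := by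
    have := mul_mem h5 (inv_mem h6)
    rwa [mul_inv_cancel_right] at this
  apply c.mv.mv
  exact NO3S.Dual.conj_eq_of_comm
    (gg.com (i := 1) (j := m + 3) (by omega) le_rfl (by omega) (by omega) x h7 f c.mv.mem).symm

/-- **section 3** -/
theorem Gr.free [Finite G] (h : Fr T V z) (hg : Gr V m y) : Free V m y := by
  obtain ⟨y₀, x, f, x', f', g0, c1, c2, rfl⟩ := hg
  intro e he hcol
  have he' : e ∈ rr V x' (y₀ (m + 1)) := he
  -- (a)
  obtain ⟨h1, h2, h3, h4, h5⟩ := c2.rr_le h c1.gg he'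
  have h2' : e ∈ ws V x := h2
  have h3' : e ∈ ws V (y₀ (m + 1)) := h3
  have h5' : e ∈ ws V (y₀ 0) := h5
  -- (b)
  have h6 : f * e = e * f :=
    (g0.com (i := m + 1) (j := m + 3) (by omega) le_rfl (by omega) (by omega) e h3' f c1.mv.mem).symm
  have h7 : e ∈ ws V (y₀ 1) := c1.mv.cen e h2' h5' h6
  -- (c)
  have hne1 : e ≠ x := by
    rintro rfl
    exact c1.mv.mv (NO3S.Dual.conj_eq_of_comm h6)
  have hne2 : e ≠ x' := by
    rintro rfl
    exact c2.gg.not_mem h3'
  have hne21 : e ≠ x' * x := by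
    rintro rfl
    exact c2.not_mem h c1.gg he'
  -- (d)
  exact grand_path h g0.path g0.cr c1.gg.cr c2.gg.cr c1.mv.col.symm c2.mv.col.symm h1 h2' h5' h7 hne1 hne2 hne21
    hcol.symm

/-- **there is no grandchild** -/
theorem no_gr' [Finite G] (hf : Fr T V z)
    (hNO : LemmaM.NoOver (NO3S.TwoFar.inc (V := V)) NO3S.TwoFar.RR NO3S.TwoFar.WS NO3S.TwoFar.VL)
    (hno : ∀ p, Col V p p → NoHP V p (TF.pim V p)) (y : ℕ → G) : ¬ Gr V m y :=
  no_gr_of hf hNO hno (fun _ h => h.free hf) y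

end Cfsg.Agent.Omega.NOThree.LL

end

section


/-!
# TwoFar, THEOREM LL (#18157): there is no GOAL pair

* `noB_of_noHP` : `NoB V` (855's form of (NO)) from `NoHP` (543's form);
* `no_gg` : **THEOREM LL**: no GOAL pair (`n ≥ 3`), from (NO); `no_goal` : in the form of `SecOne.Goal`;
* `no_gg_of_mlk`, `no_goal_of_mlk` : from (ML) for the K-groups.
-/

set_option autoImplicit false
set_option linter.unusedSectionVars false

namespace Cfsg.Agent.Omega.NOThree.LL

open Subgroup Cfsg Cfsg.Agent.ZN Cfsg.Agent.MinSimple.Geo Cfsg.Agent.Omega.CaseL Cfsg.Agent.Omega.NO3S.TwoOne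
open Cfsg.Agent.Omega.NO3S.Pt
open Cfsg.Agent.Omega.NOThree.SecOne (Goal)
open Cfsg.Agent.Omega.NOThree.TF (Md conj_mem_ws_of_mem MM pim md_MM)
open Cfsg.Agent.Omega.NOThree.LemmaM (NoOver)

universe u

variable {G : Type u} [Group G] {T V : Subgroup G} {z : G} {m : ℕ} {y : ℕ → G}

/-- (NO) in the form `NoB` -/
theorem noB_of_noHP [Finite G] (h : Fr T V z) (hno : ∀ p, Col V p p → NoHP V p (pim V p)) : NoB V := by
  intro g p hp hp1 B hB hB1 hB2 N C hN hC
  have hpc : Col V p p := Col.of_mem hp hp hp1 hp1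
  have md := md_MM h hpc
  have hfin : Finite (MM V p) := finite_Md md
  have hpp := h.pt_sq hpc
  obtain ⟨U, hU⟩ := TF.Md.exists_U h md hp hp1
  -- a second point of the line
  obtain ⟨x, hx, hx1, hxp⟩ : ∃ x ∈ cj g V, x ≠ 1 ∧ x ≠ p := by
    obtain ⟨k, -, -, hf⟩ := h.flag hp hp1
    exact hf.ln.exists_y
  have hno' := hno p hpc g x U hp hp1 hx hx1 hxp hU
  have hBc : B ≤ centralizer ({p} : Set G) := fun b hb => mem_centralizer_singleton_iff.2 (hB b hb)
  -- the action on `π u`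
  have hact : ∀ (b : centralizer ({p} : Set G)) {u : G}, u ∈ ws V p →
      (b • pim V p u = pim V p u ↔ (b : G) * u * (b : G)⁻¹ * u⁻¹ ∈ zpowers p) := by
    intro b u hu
    rw [← md.smul b u hu, md.eq_iff h hpc (conj_mem_ws_of_mem b.2 hu) hu, mem_zpowers_iff_of_mul_self hpp]
    refine or_congr ⟨fun e => ?_, fun e => ?_⟩ ⟨fun e => ?_, fun e => ?_⟩
    · rw [e, mul_inv_cancel]
    · exact mul_inv_eq_one.1 e
    · rw [e, mul_inv_cancel_right]
    · exact mul_inv_eq_iff_eq_mul.1 e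
  have h1 := hno' (B.subgroupOf (centralizer ({p} : Set G))) (by
    intro b hb
    have hb' : (b : G) ∈ B := mem_subgroupOf.1 hb
    refine ⟨fun u hu => ?_, fun v => ?_⟩
    · obtain ⟨a, ha, rfl⟩ := (hU u).1 hu
      exact (hact b (h.ii_cj_le hp hp1 ha)).2 (hB1 _ hb' a ha)
    · obtain ⟨a, ha, rfl⟩ := md.surj v
      have ha' : a⁻¹ = a := inv_eq_of_mul_eq_one_left (h.ws_sq hpc a ha)
      have h2 : (b : G) * a * (b : G)⁻¹ ∈ ws V p := conj_mem_ws_of_mem b.2 ha
      rw [md.sub_eq h hpc, ← md.smul b a ha, ← md.map_mul _ h2 _ ha, hU]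
      refine ⟨_, hB2 _ hb' a ha, ?_⟩
      rw [ha'])
  -- the indices
  have h2 : (kerM (centralizer ({p} : Set G)) (MM V p)).relIndex (B.subgroupOf (centralizer ({p} : Set G))) =
      N.relIndex B := by
    have e : (kerM (centralizer ({p} : Set G)) (MM V p)).subgroupOf (B.subgroupOf (centralizer ({p} : Set G))) =
        (N.subgroupOf (centralizer ({p} : Set G))).subgroupOf (B.subgroupOf (centralizer ({p} : Set G))) := by
      ext ⟨b, hb⟩
      rw [mem_subgroupOf, mem_subgroupOf, mem_subgroupOf, mem_kerM, hN]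
      have hb' : (b : G) ∈ B := mem_subgroupOf.1 hb
      constructor
      · intro hk
        exact ⟨hb', fun u hu => (hact b hu).1 (hk _)⟩
      · rintro ⟨-, hk⟩ v
        obtain ⟨a, ha, rfl⟩ := md.surj v
        exact (hact b ha).2 (hk a ha)
    rw [relIndex, e]
    change (N.subgroupOf (centralizer ({p} : Set G))).relIndex (B.subgroupOf (centralizer ({p} : Set G))) = _
    exact relIndex_subgroupOf hBc
  have h3 : (One.cv (MM V p) (B.subgroupOf (centralizer ({p} : Set G)))).index = C.relIndex (ws V p) := by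
    refine md.index_eq_relIndex fun a ha => ?_
    rw [One.mem_cv, hC]
    constructor
    · intro hk
      exact ⟨ha, fun b hb => (hact ⟨b, hBc hb⟩ ha).1 (hk ⟨b, hBc hb⟩ (mem_subgroupOf.2 hb))⟩
    · rintro ⟨-, hk⟩ b hb
      exact (hact b ha).2 (hk b (mem_subgroupOf.1 hb))
  have h4 := (One.cv (MM V p) (B.subgroupOf (centralizer ({p} : Set G)))).card_mul_index
  rw [h2, ← h4, h3, mul_comm] at h1
  exact Nat.le_of_mul_le_mul_left h1 Nat.card_pos

/-- **THEOREM LL**: there is no GOAL pair. -/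
theorem no_gg [Finite G] (h : Fr T V z)
    (hNO : NoOver (NO3S.TwoFar.inc (V := V)) NO3S.TwoFar.RR NO3S.TwoFar.WS NO3S.TwoFar.VL)
    (hno : ∀ p, Col V p p → NoHP V p (pim V p)) : ¬ GG V (m + 3) y := by
  intro gg
  obtain ⟨y', hy'⟩ := Ctx.exists_gr ⟨h, hNO, noB_of_noHP h hno, noTwo h m⟩ gg
  exact no_gr' h hNO hno y' hy'

/-- **THEOREM LL**, from (ML) -/
theorem no_gg_of_mlk [Finite G] (hML : ML.Final.MLK.{u, u}) (h : Fr T V z)
    (hNO : NoOver (NO3S.TwoFar.inc (V := V)) NO3S.TwoFar.RR NO3S.TwoFar.WS NO3S.TwoFar.VL)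
    (hK : ∀ p, Col V p p → IsKGroup (centralizer ({p} : Set G))) : ¬ GG V (m + 3) y :=
  no_gg h hNO fun p hp => noHP_of hML h (hK p hp) (md_MM h hp)

/-- a goal pair in the form of `SecOne` has a geodesic -/
theorem exists_gg_of_goal {p x q : G} (hg : Goal V (m + 3) p x q) : ∃ y, GG V (m + 3) y := by
  have hp : Pth V (m + 2) x q := hg.path
  obtain ⟨w, h0, h1, h2⟩ := Ctx.exists_seq hp
  refine ⟨ch p w, ?_, ?_, ?_, ?_, ?_⟩
  · change Cr V (m + 3) p (w (m + 2))
    rw [h1]; exact hg.crit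
  · intro i hi
    cases i with
    | zero =>
      change Col V p (w 0)
      rw [h0]; exact hg.col
    | succ i => exact h2 i (by omega)
  · change p ∉ ws V (w (m + 2))
    rw [h1]; exact hg.not_mem
  · change w (m + 2) ∉ ws V p
    rw [h1]; exact hg.not_mem'
  · intro a ha b hb
    have ha' : a ∈ ws V p := ha
    have hb' : b ∈ ws V (w (m + 2)) := hb
    change a * b * a⁻¹ * b⁻¹ ∈ ws V (w 0)
    rw [h1] at hb'
    rw [h0]
    exact (hg.le a ha' b hb').2

/-- **THEOREM LL**: no goal pair -/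
theorem no_goal [Finite G] (h : Fr T V z)
    (hNO : NoOver (NO3S.TwoFar.inc (V := V)) NO3S.TwoFar.RR NO3S.TwoFar.WS NO3S.TwoFar.VL)
    (hno : ∀ p, Col V p p → NoHP V p (pim V p)) {p x q : G} : ¬ Goal V (m + 3) p x q := fun hg =>
  no_gg h hNO hno (exists_gg_of_goal hg).choose_spec

/-- **THEOREM LL**: no goal pair, from (ML) -/
theorem no_goal_of_mlk [Finite G] (hML : ML.Final.MLK.{u, u}) (h : Fr T V z)
    (hNO : NoOver (NO3S.TwoFar.inc (V := V)) NO3S.TwoFar.RR NO3S.TwoFar.WS NO3S.TwoFar.VL)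
    (hK : ∀ p, Col V p p → IsKGroup (centralizer ({p} : Set G))) {p x q : G} : ¬ Goal V (m + 3) p x q := fun hg =>
  no_gg_of_mlk hML h hNO hK (exists_gg_of_goal hg).choose_spec

end Cfsg.Agent.Omega.NOThree.LL

end

section


/-!
# The world `W0` for `n ≥ 3` (#21024 of helper56): the input from THEOREM LL (#18157 (6.1), (6.2)), `N_p` arbitrary

* `PreL` : an exact critical pair with `x^b ≠ p x` and `[W_p, W_q] ≤ W_{p₁}`; `PreL.one_one`, `PreL.all` (1.1), (1.2);
* `exists_sp_of_le` : it has a special point (a (D)-pair);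
* `no_sp` : without goal pairs no critical pair has a special point;
* `world` : from (ML), all critical pairs are exact, `x^b ≠ p x`, no (D)-pair.
-/

set_option autoImplicit false
set_option linter.unusedSectionVars false

namespace Cfsg.Agent.Omega.NO3S.WZero

open Subgroup Cfsg Cfsg.Agent.ZN Cfsg.Agent.MinSimple.Geo Cfsg.Agent.Omega.CaseL Cfsg.Agent.Omega.NO3S.TwoOne
open Cfsg.Agent.Omega Cfsg.Agent.Omega.NOThree Cfsg.Agent.Omega.NOThree.LL
open Cfsg.Agent.Omega.NO3S.Pt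
open Cfsg.Agent.Omega.NO3S.Dual (nn mem_nn DW)
open Cfsg.Agent.Omega.NOThree.TF (Md conj_mem_ws_of_mem exists_T exists_flag2 MM pim md_MM ce)
open Cfsg.Agent.Omega.NOThree.SecOne (Exact ee mem_ee Goal comm_of_comm_eq_one comm_eq_one comm_inv_eq exact_or_goal)
open Cfsg.Agent.Omega.NOThree.SecFive (Sp)
open Cfsg.Agent.ZN.Block (conj_mem_of_normalizer conj_mem_of_normalizer' le_normalizer_of_forall
  mem_normalizer_of)

universe u v

variable {G : Type u} [Group G] {M : Type v} [AddCommGroup M]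

/-- an exact critical pair with `x^b ≠ p x`, `[W_p, W_q] ≤ W_{p₁}` -/
structure PreL (T V : Subgroup G) (z : G) (m : ℕ) (p q p₁ : G) [DistribMulAction (centralizer ({p} : Set G)) M]
    (π : G → M) : Prop where
  fr : Fr T V z
  cr : Cr V (m + 3) p q
  col : Col V p p₁
  ne : p₁ ≠ p
  pth : Pth V (m + 2) p₁ q
  ex : Exact V p q
  nm : ∀ x, Col V x p → x ≠ p → ∀ b ∈ ws V q, b * x * b⁻¹ ≠ p * x
  md : Md V p π
  le : ∀ a ∈ ws V p, ∀ b ∈ ws V q, a * b * a⁻¹ * b⁻¹ ∈ ws V p₁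

namespace PreL

variable {T V : Subgroup G} {z p q p₁ : G} {m : ℕ} [DistribMulAction (centralizer ({p} : Set G)) M]
  {π : G → M} (s : PreL T V z m p q p₁ π)
include s

theorem hp : Col V p p := s.col.left

theorem wq_le [Finite G] : ws V q ≤ centralizer ({p} : Set G) := s.cr.symm.cent s.fr

theorem com1 : Com V p₁ q := s.cr.min (m + 2) (by omega) _ _ s.pth

theorem p1_mem : p₁ ∈ ws V p := s.fr.mem_ws_of_col s.col

theorem p1_mem' : p₁ ∈ ws V p₁ := s.fr.mem_ws_self s.col.right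

theorem fix_lam {f : centralizer ({p} : Set G)} (hf : (f : G) ∈ ws V q) : f • π p₁ = π p₁ := by
  rw [← s.md.smul f _ s.p1_mem]
  congr 1
  exact NO3S.Dual.conj_eq_of_comm (s.com1 _ s.p1_mem' _ hf).symm

theorem two (m : M) : m + m = 0 := s.md.two s.fr s.hp m

theorem sub_eq (m m' : M) : m - m' = m + m' := s.md.sub_eq s.fr s.hp m m'

theorem f_sq {f : centralizer ({p} : Set G)} (hf : (f : G) ∈ ws V q) (v : M) : f • f • v = v := by
  have e : f * f = 1 := Subtype.ext (s.fr.ws_sq s.cr.path.right _ hf)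
  rw [← mul_smul, e, one_smul]

theorem moves_of_not_mem [Finite G] {f : centralizer ({p} : Set G)} (hf : (f : G) ∈ ws V q)
    (hfc : (f : G) ∉ centralizer (ws V p : Set G)) : ∃ v : M, f • v ≠ v := by
  by_contra hcon
  push Not at hcon
  apply hfc
  have h1 := s.ex.kq _ hf ((s.md.mem_kq_iff s.fr s.hp f).2 hcon)
  rw [mem_centralizer_iff]
  exact fun a ha => ((mem_ee.1 h1).2 a ha).symm

/-- `h` moves `λ` -/
theorem moves [Finite G] {f h : centralizer ({p} : Set G)} (hf : (f : G) ∈ ws V q)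
    (i : Inv M f h) : h • π p₁ ≠ π p₁ := by
  intro e
  obtain ⟨k, hk, hkx⟩ := s.md.fix_lift s.fr s.col s.ne e
  have hk1 : ∀ v : M, k • v = v := (s.md.mem_kq_iff s.fr s.hp k).1 hk
  obtain ⟨g, hp, hx, hp1, hx1⟩ := s.col
  set c : centralizer ({p} : Set G) := k * h with hc
  have hcv : ∀ v : M, c • v = h • v := fun v => by rw [hc, mul_smul, hk1]
  have hcv' : ∀ v : M, c⁻¹ • v = h⁻¹ • v := fun v => by
    rw [inv_smul_eq_iff, hcv, smul_inv_smul]
  -- `c ∈ C(l)`
  have hcl : (c : G) ∈ centralizer ((cj g V : Subgroup G) : Set G) := by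
    rw [mem_centralizer_iff]
    intro a ha
    have e0 : (c : G) * p = p * c := mem_centralizer_singleton_iff.1 c.2
    have e1 : (c : G) * p₁ = p₁ * c := NO3S.Dual.comm_of_conj_eq hkx
    rcases TF.Md.four_cj s.fr hp hp1 hx hx1 s.ne ha with e | e | e | e
    · rw [e]; simp
    · rw [e, e0]
    · rw [e, e1]
    · rw [e]
      calc p * p₁ * c = p * (p₁ * c) := by group
        _ = (p * c) * p₁ := by rw [← e1]; group
        _ = c * (p * p₁) := by rw [← e0]; group
  -- `f ∈ O₂(C(l))`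
  have h1 : (f : G) ∈ o2 (centralizer ((cj g V : Subgroup G) : Set G)) :=
    ws_le_o2_line s.fr s.cr.min (n := m + 2) s.pth.symm hx hf
  set d : centralizer ({p} : Set G) := f * (c * f⁻¹ * c⁻¹) with hd
  have h2 : (d : G) ∈ o2 (centralizer ((cj g V : Subgroup G) : Set G)) :=
    mul_mem h1 (conj_mem_of_normalizer (le_normalizer_o2 _) hcl (inv_mem h1))
  obtain ⟨j, hj⟩ := isPGroup_o2 _ ⟨(d : G), h2⟩
  have hj' : d ^ 2 ^ j = 1 := by
    refine Subtype.ext ?_
    have := congrArg Subtype.val hj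
    rw [SubgroupClass.coe_pow, OneMemClass.coe_one] at this ⊢
    exact this
  refine i.not_two (d := d) (j := j) (fun v => ?_) (fun v => by rw [hj', one_smul])
  rw [hd, mul_smul, mul_smul, mul_smul, hcv, hcv']
  have h3 : f⁻¹ • h⁻¹ • v = h • f⁻¹ • v := by
    rw [inv_smul_eq_iff, i.conj_smul, smul_inv_smul]
  rw [h3, i.conj_smul, i.conj_smul, smul_inv_smul]

/-- **movers** : `x = p₁^h ∼ p` with `x^f ≠ x, p x` -/
theorem exists_mover [Finite G] {f : centralizer ({p} : Set G)} (hf : (f : G) ∈ ws V q)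
    (hfc : (f : G) ∉ centralizer (ws V p : Set G)) :
    ∃ h : centralizer ({p} : Set G), Inv M f h ∧ Col V p ((h : G) * p₁ * (h : G)⁻¹) ∧
      (h : G) * p₁ * (h : G)⁻¹ ≠ p ∧ f • π ((h : G) * p₁ * (h : G)⁻¹) ≠ π ((h : G) * p₁ * (h : G)⁻¹) := by
  obtain ⟨h, i⟩ := exists_inv (redM_md s.fr s.md s.col s.ne) (s.f_sq hf) (s.moves_of_not_mem hf hfc)
  have hp0 : (h : G) * p * (h : G)⁻¹ = p :=
    NO3S.Dual.conj_eq_of_comm (mem_centralizer_singleton_iff.1 h.2)
  refine ⟨h, i, ?_, ?_, ?_⟩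
  · have := s.col.conj (h : G)
    rwa [hp0] at this
  · intro e
    apply s.ne
    calc p₁ = (h : G)⁻¹ * ((h : G) * p₁ * (h : G)⁻¹) * h := by group
      _ = (h : G)⁻¹ * (h * p * (h : G)⁻¹) * h := by rw [e, hp0]
      _ = p := by group
  · rw [s.md.smul h _ s.p1_mem]
    intro e
    exact s.moves hf i (i.fix' (s.fix_lam hf) e)

/-- `C(W_{p₁})` and `C(W_x)` -/
theorem cent_lift {x : G} {h g : centralizer ({p} : Set G)} (hx : x = (h : G) * p₁ * (h : G)⁻¹)
    (hg : (g : G) ∈ centralizer (ws V p₁ : Set G)) :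
    ((h * g * h⁻¹ : centralizer ({p} : Set G)) : G) ∈ centralizer (ws V x : Set G) := by
  rw [mem_centralizer_iff] at hg ⊢
  intro a ha
  have h1 : (h : G)⁻¹ * a * h ∈ ws V p₁ := by
    have := conj_mem_ws (h : G)⁻¹ ha
    have e : (h : G)⁻¹ * x * (h : G)⁻¹⁻¹ = p₁ := by rw [hx]; group
    rwa [e, inv_inv] at this
  have h2 := hg _ h1
  change a * ((h : G) * g * (h : G)⁻¹) = (h : G) * g * (h : G)⁻¹ * a
  calc a * ((h : G) * g * (h : G)⁻¹) = h * ((h : G)⁻¹ * a * h * g) * (h : G)⁻¹ := by group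
    _ = (h : G) * g * (h : G)⁻¹ * a := by rw [h2]; group

/-- **(1.1)** -/
theorem one_one [Finite G] {f h : centralizer ({p} : Set G)} {x : G} (hf : (f : G) ∈ ws V q)
    (i : Inv M f h) (hx : x = (h : G) * p₁ * (h : G)⁻¹) (hcol : Col V p x) (hxp : x ≠ p)
    (hmv : f • π x ≠ π x) (hD : ¬ ws V x ⊓ ws V ((f : G) * x * (f : G)⁻¹) ≤ ws V p) :
    f • π x = π x + π p₁ ∧ ∀ g : centralizer ({p} : Set G), (g : G) ∈ centralizer (ws V p₁ : Set G) →
      g • π x - π x ∈ AddSubgroup.closure {π p₁} ⊔ NB V p π := by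
  have two := s.two
  obtain ⟨l, hp, hq, hp1, hq1⟩ := s.col
  obtain ⟨U, hU⟩ := TF.Md.exists_U s.fr s.md hp hp1
  have hlU : π p₁ ∈ U := TF.Md.lam_mem_U s.fr s.md hp hp1 hq hU
  have hUN : ∀ v ∈ U, v ∈ NB V p π → v = 0 := fun v hv hn => inf_NB s.fr s.md hp hp1 hU hv hn
  have hNs : ∀ (c : centralizer ({p} : Set G)), ∀ v ∈ NB V p π, c • v ∈ NB V p π :=
    fun c v hv => smul_mem_NB s.fr s.hp s.md c hv
  have hl0 : π p₁ ≠ 0 := s.md.pt_ne_zero s.fr s.col s.ne
  have hlN : π p₁ ∉ NB V p π := fun h1 => hl0 (hUN _ hlU h1)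
  have hxw : x ∈ ws V p := s.fr.mem_ws_of_col hcol
  have hmu : π x = h • π p₁ := by rw [hx]; exact s.md.smul h _ s.p1_mem
  set x' := (f : G) * x * (f : G)⁻¹ with hx'
  have hxw' : x' ∈ ws V p := conj_mem_ws_of_mem f.2 hxw
  have hnu : π x' = f • π x := s.md.smul f x hxw
  have hff : f • π x' = π x := by rw [hnu, s.f_sq hf]
  set mu := π x with hmudef
  set nu := π x' with hnudef
  set lam := π p₁ with hlam
  have hne : nu ≠ mu := by
    intro e
    exact hmv (by rw [← hnu]; exact e)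
  have hfl : f • lam = lam := s.fix_lam hf
  -- `c = mu + nu ∈ U`
  have hcU : mu + nu ∈ U := by
    have h1 : x' * x⁻¹ ∈ ws V p₁ := by
      have h2 := s.le x hxw f hf
      have e : x' * x⁻¹ = (x * f * x⁻¹ * (f : G)⁻¹)⁻¹ := by rw [hx']; group
      rw [e]
      exact inv_mem h2
    have hxi : x⁻¹ = x := inv_eq_of_mul_eq_one_right (s.fr.pt_sq hcol.right)
    rw [hxi] at h1
    have h2 : x' * x ∈ ws V p := mul_mem hxw' hxw
    rw [hU]
    refine ⟨x' * x, s.fr.mem_ii_cj hp hp1 hq hq1 s.ne h2 h1, ?_⟩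
    rw [s.md.map_mul _ hxw' _ hxw, add_comm]
  have hcN : mu + nu ∉ NB V p π := by
    intro h1
    have h2 := hUN _ hcU h1
    apply hne
    rw [← s.sub_eq, sub_eq_zero] at h2
    exact h2.symm
  have hnuN : nu ∉ NB V p π := by
    intro h1
    apply hlN
    have h2 := hNs h⁻¹ _ (hNs f _ h1)
    rwa [hff, hmu, inv_smul_smul] at h2
  -- (S)
  have hcolx' : Col V p x' := by
    have := hcol.conj (f : G)
    rwa [NO3S.Dual.conj_eq_of_comm (mem_centralizer_singleton_iff.1 f.2)] at this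
  have hx'p : x' ≠ p := by
    intro e
    apply hxp
    have e0 : (f : G)⁻¹ * p * f = p := by
      have := mem_centralizer_singleton_iff.1 f.2
      rw [mul_assoc, ← this, inv_mul_cancel_left]
    calc x = (f : G)⁻¹ * x' * f := by rw [hx']; group
      _ = p := by rw [e, e0]
  have hS := (s.fr.lemD hcol hcolx' hxp hx'p).resolve_left hD
  set P := AddSubgroup.closure {mu, nu} ⊔ NB V p π with hP
  have hmuP : mu ∈ P := (le_sup_left : _ ≤ P) (AddSubgroup.subset_closure (Or.inl rfl))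
  have hnuP : nu ∈ P := (le_sup_left : _ ≤ P) (AddSubgroup.subset_closure (Or.inr rfl))
  have hNP : NB V p π ≤ P := le_sup_right
  have hpre : closure {x, x'} ⊔ nn (ws V p) (kq V p) ≤ pre s.md P := by
    refine sup_le ?_ fun a ha => ⟨ha.1, hNP ((mem_NB s.fr s.hp s.md).2 ⟨a, ha, rfl⟩)⟩
    rw [closure_le]
    rintro a (rfl | rfl)
    · exact ⟨hxw, hmuP⟩
    · exact ⟨hxw', hnuP⟩
  have hgen : ∀ g : centralizer ({p} : Set G), (g • mu ∈ P) → (g • nu ∈ P) → ∀ v ∈ P, g • v ∈ P := by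
    intro g h1 h2
    have h3 : P ≤ P.comap (DistribSMul.toAddMonoidHom M g) := by
      rw [hP, sup_le_iff, AddSubgroup.closure_le]
      refine ⟨?_, fun v hv => hNP (hNs g v hv)⟩
      rintro v (rfl | rfl)
      · exact h1
      · exact h2
    exact fun v hv => h3 hv
  have hcx : ∀ g : centralizer ({p} : Set G), (g : G) ∈ centralizer (ws V x : Set G) →
      g • mu = mu ∧ g • nu ∈ P := by
    intro g hg
    have h1 := hS g ((le_sup_left : centralizer (ws V x : Set G) ≤ _) hg)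
    constructor
    · rw [hmudef, ← s.md.smul g x hxw]
      congr 1
      exact NO3S.Dual.conj_eq_of_comm (mem_centralizer_iff.1 hg x (s.fr.mem_ws_self hcol.right)).symm
    · have h2 := (hpre h1.2).2
      rw [s.md.smul g x' hxw'] at h2
      exact h2
  have h1 : ∀ v ∈ P, f • v ∈ P := hgen f (by rw [← hnu]; exact hnuP) (by rw [hff]; exact hmuP)
  have h2 : ∀ v ∈ P, h • f • h⁻¹ • v ∈ P := by
    intro v hv
    have hfc : (f : G) ∈ centralizer (ws V p₁ : Set G) := by
      rw [mem_centralizer_iff]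
      exact fun a ha => s.com1 a ha _ hf
    obtain ⟨h3, h4⟩ := hcx _ (s.cent_lift hx hfc)
    have h5 := hgen (h * f * h⁻¹) (by rw [h3]; exact hmuP) h4 v hv
    rwa [mul_smul, mul_smul] at h5
  obtain ⟨h3, h4⟩ := i.pres (s.f_sq hf) h1 h2
  have hlP : lam ∈ P := by
    have := h4 _ hmuP
    rwa [hmu, inv_smul_smul] at this
  have hlam' : nu = mu + lam := by
    obtain ⟨w, hw, e | e | e | e⟩ := St.mem_sup4 two hlP
    · exact absurd (e ▸ hw) hlN
    · exfalso
      apply hcN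
      have e1 : f • lam = f • mu + f • w := by rw [e, smul_add]
      rw [hfl, ← hnu] at e1
      have e2 : mu + nu = w + f • w := by
        have e3 : mu = lam + w := by rw [e, add_assoc, two, add_zero]
        have e4 : nu = lam + f • w := by rw [e1, add_assoc, two, add_zero]
        rw [e3, e4]
        calc lam + w + (lam + f • w) = (lam + lam) + (w + f • w) := by abel
          _ = w + f • w := by rw [two, zero_add]
      rw [e2]
      exact add_mem hw (hNs f w hw)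
    · exfalso
      apply hcN
      have e1 : f • lam = f • nu + f • w := by rw [e, smul_add]
      rw [hfl, hff] at e1
      have e2 : mu + nu = f • w + w := by
        have e3 : nu = lam + w := by rw [e, add_assoc, two, add_zero]
        have e4 : mu = lam + f • w := by rw [e1, add_assoc, two, add_zero]
        rw [e3, e4]
        calc lam + f • w + (lam + w) = (lam + lam) + (f • w + w) := by abel
          _ = f • w + w := by rw [two, zero_add]
      rw [e2]
      exact add_mem (hNs f w hw) hw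
    · have e1 : w = lam + (mu + nu) := by
        rw [e]
        calc w = (mu + mu) + (nu + nu) + w := by rw [two, two, zero_add, zero_add]
          _ = mu + nu + w + (mu + nu) := by abel
      have e2 : w = 0 := hUN w (by rw [e1]; exact add_mem hlU hcU) hw
      rw [e2, add_zero] at e
      rw [e]
      calc nu = (mu + mu) + nu := by rw [two, zero_add]
        _ = mu + (mu + nu) := by abel
  refine ⟨by rw [← hnu]; exact hlam', ?_⟩
  -- `[nu, C(W_x)] ≤ ⟨mu⟩ + N`
  have h5 : ∀ g : centralizer ({p} : Set G), (g : G) ∈ centralizer (ws V x : Set G) →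
      ∃ w ∈ NB V p π, g • nu - nu = w ∨ g • nu - nu = mu + w := by
    intro g hg
    obtain ⟨h6, h7⟩ := hcx g hg
    obtain ⟨w, hw, e | e | e | e⟩ := St.mem_sup4 two h7
    · exfalso
      apply hnuN
      have := hNs g⁻¹ w hw
      rwa [← e, inv_smul_smul] at this
    · exfalso
      apply hcN
      have e1 : g • (mu + nu) = w := by
        rw [smul_add, h6, e, ← add_assoc, two, zero_add]
      have := hNs g⁻¹ w hw
      rwa [← e1, inv_smul_smul] at this
    · exact ⟨w, hw, Or.inl (by rw [e, add_sub_cancel_left])⟩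
    · refine ⟨w, hw, Or.inr ?_⟩
      rw [e]
      abel
  intro g hg
  set Q := AddSubgroup.closure {lam} ⊔ NB V p π with hQ
  have hlQ : lam ∈ Q := (le_sup_left : _ ≤ Q) (AddSubgroup.subset_closure rfl)
  have hNQ : NB V p π ≤ Q := le_sup_right
  have hgl : g • lam = lam := by
    rw [hlam, ← s.md.smul g _ s.p1_mem]
    congr 1
    exact NO3S.Dual.conj_eq_of_comm (mem_centralizer_iff.1 hg _ s.p1_mem').symm
  -- for `κ = h⁻¹ • nu`
  have h8 : g • h⁻¹ • nu - h⁻¹ • nu ∈ Q := by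
    obtain ⟨w, hw, e⟩ := h5 _ (s.cent_lift hx hg)
    have e1 : g • h⁻¹ • nu - h⁻¹ • nu = h⁻¹ • ((h * g * h⁻¹) • nu - nu) := by
      rw [smul_sub, mul_smul, mul_smul, inv_smul_smul]
    rw [e1]
    rcases e with e | e
    · rw [e]
      exact hNQ (hNs _ w hw)
    · rw [e, smul_add, hmu, inv_smul_smul]
      exact add_mem hlQ (hNQ (hNs _ w hw))
  have hgN : ∀ w ∈ NB V p π, g • w - w ∈ Q := fun w hw => sub_mem (hNQ (hNs g w hw)) (hNQ hw)
  obtain ⟨w, hw, e | e | e | e⟩ := St.mem_sup4 two (h4 _ hnuP)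
  · exfalso
    apply hnuN
    have := hNs h w hw
    rwa [← e, smul_inv_smul] at this
  · rw [e] at h8
    have e1 : g • mu - mu = (g • (mu + w) - (mu + w)) - (g • w - w) := by rw [smul_add]; abel
    rw [e1]
    exact sub_mem h8 (hgN w hw)
  · rw [e, hlam'] at h8
    have e1 : g • mu - mu = (g • (mu + lam + w) - (mu + lam + w)) - (g • w - w) := by
      rw [smul_add, smul_add, hgl]; abel
    rw [e1]
    exact sub_mem h8 (hgN w hw)
  · exfalso
    apply hcN
    have e1 : h⁻¹ • nu = lam + w := by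
      rw [e, hlam']
      calc mu + (mu + lam) + w = (mu + mu) + (lam + w) := by abel
        _ = lam + w := by rw [two, zero_add]
    have e2 : nu = mu + h • w := by
      rw [hmu, ← smul_add, ← e1, smul_inv_smul]
    have e3 : mu + nu = h • w := by rw [e2, ← add_assoc, two, zero_add]
    rw [e3]
    exact hNs h w hw

/-- **(1.2)**: without special points `[M_p, W_q] ≤ ⟨λ⟩` -/
theorem all [Finite G] (hcon : ¬ ∃ x, Sp V p q x) (v : M) {b : centralizer ({p} : Set G)}
    (hb : (b : G) ∈ ws V q) : b • v = v ∨ b • v = v + π p₁ := by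
  classical
  have two := s.two
  obtain ⟨l, hp, hq, hp1, hq1⟩ := s.col
  obtain ⟨U, hU⟩ := TF.Md.exists_U s.fr s.md hp hp1
  have hlU : π p₁ ∈ U := TF.Md.lam_mem_U s.fr s.md hp hp1 hq hU
  have hUN : ∀ v ∈ U, v ∈ NB V p π → v = 0 := fun v hv hn => inf_NB s.fr s.md hp hp1 hU hv hn
  have hl0 : π p₁ ≠ 0 := s.md.pt_ne_zero s.fr s.col s.ne
  set Q := AddSubgroup.closure {π p₁} ⊔ NB V p π with hQ
  let ML : AddSubgroup M :=
    { carrier := {v | ∀ g : centralizer ({p} : Set G), (g : G) ∈ centralizer (ws V p₁ : Set G) → g • v - v ∈ Q}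
      zero_mem' := fun g _ => by rw [smul_zero, sub_zero]; exact zero_mem _
      add_mem' := fun {a b} ha hb g hg => by
        have e : g • (a + b) - (a + b) = (g • a - a) + (g • b - b) := by rw [smul_add]; abel
        rw [e]
        exact add_mem (ha g hg) (hb g hg)
      neg_mem' := fun {a} ha g hg => by
        have e : g • (-a) - (-a) = -(g • a - a) := by rw [smul_neg]; abel
        rw [e]
        exact neg_mem (ha g hg) }
  set X := pre s.md ML with hX
  set E := ee V p q with hE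
  set E' := ee V q p with hE'
  have hex := s.ex
  have hXw : X ≤ ws V p := fun a ha => ha.1
  have hEw : E ≤ ws V p := fun a ha => (mem_ee.1 ha).1
  have hE'w : E' ≤ ws V q := fun a ha => (mem_ee.1 ha).1
  let lft : ws V q → centralizer ({p} : Set G) := fun b => ⟨b, s.wq_le b.2⟩
  -- `δ ∈ {0, λ}`
  have hδ : ∀ (a : G) (b : ws V q), a ∈ X → lft b • π a - π a = 0 ∨ lft b • π a - π a = π p₁ := by
    intro a b ha
    have hbc : (lft b : G) ∈ centralizer (ws V p₁ : Set G) := by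
      rw [mem_centralizer_iff]
      exact fun w hw => s.com1 w hw _ b.2
    have h1 : lft b • π a - π a ∈ Q := ha.2 (lft b) hbc
    have hbw : (b : G) * a * (b : G)⁻¹ ∈ ws V p := conj_mem_ws_of_mem (lft b).2 ha.1
    have h2 : lft b • π a - π a ∈ U := by
      rw [hU]
      refine ⟨(b : G) * a * (b : G)⁻¹ * a, s.fr.mem_ii_cj hp hp1 hq hq1 s.ne (mul_mem hbw ha.1) ?_, ?_⟩
      · have h3 := inv_mem (s.le a ha.1 b b.2)
        have hai : a⁻¹ = a := inv_eq_of_mul_eq_one_right (s.fr.ws_sq s.hp a ha.1)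
        have e : (a * b * a⁻¹ * (b : G)⁻¹)⁻¹ = (b : G) * a * (b : G)⁻¹ * a⁻¹ := by group
        rw [e, hai] at h3
        exact h3
      · rw [s.md.map_mul _ hbw _ ha.1, s.sub_eq]
        congr 1
        exact s.md.smul (lft b) a ha.1
    have h3 : lft b • π a - π a ∈ AddSubgroup.closure {π p₁, 0} ⊔ NB V p π := by
      refine (sup_le_sup_right (AddSubgroup.closure_mono ?_) _) h1
      rintro v rfl
      exact Or.inl rfl
    obtain ⟨w, hw, e | e | e | e⟩ := St.mem_sup4 two h3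
    · left
      rw [e] at h2 ⊢
      exact hUN w h2 hw
    · right
      have h4 : w ∈ U := by
        have : w = (π p₁ + w) - π p₁ := by abel
        rw [this, ← e]
        exact sub_mem h2 hlU
      rw [e, hUN w h4 hw, add_zero]
    · left
      rw [zero_add] at e
      rw [e] at h2 ⊢
      exact hUN w h2 hw
    · right
      rw [add_zero] at e
      have h4 : w ∈ U := by
        have : w = (π p₁ + w) - π p₁ := by abel
        rw [this, ← e]
        exact sub_mem h2 hlU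
      rw [e, hUN w h4 hw, add_zero]
  have hfl : ∀ b : ws V q, lft b • π p₁ = π p₁ := fun b => s.fix_lam b.2
  have hmulsgn : ∀ α β : M, (α = 0 ∨ α = π p₁) → (β = 0 ∨ β = π p₁) →
      (if α + β = 0 then (1 : ℤˣ) else -1) = (if α = 0 then (1 : ℤˣ) else -1) * (if β = 0 then (1 : ℤˣ) else -1) := by
    rintro α β (rfl | rfl) (rfl | rfl)
    · simp
    · simp
    · simp
    · rw [if_pos (two _), if_neg hl0]
      rfl
  have h1 := pairing_units (A := X) (B := ws V q)
    (fun a b => if lft b • π (a : G) - π (a : G) = 0 then (1 : ℤˣ) else -1)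
    (fun a a' b => by
      rw [← hmulsgn _ _ (hδ a b a.2) (hδ a' b a'.2)]
      congr 2
      change lft b • π ((a : G) * a') - π ((a : G) * a') = _
      rw [s.md.map_mul _ a.2.1 _ a'.2.1, smul_add]
      abel)
    (fun a b b' => by
      rw [← hmulsgn _ _ (hδ a b a.2) (hδ a b' a.2)]
      congr 2
      have e : lft (b * b') = lft b * lft b' := rfl
      rw [e, mul_smul]
      have e1 : lft b • (lft b' • π (a : G) - π (a : G)) = lft b' • π (a : G) - π (a : G) := by
        rcases hδ a b' a.2 with e | e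
        · rw [e, smul_zero]
        · rw [e, hfl]
      have e2 : lft b • lft b' • π (a : G) - π (a : G) =
          lft b • (lft b' • π (a : G) - π (a : G)) + (lft b • π (a : G) - π (a : G)) := by
        rw [smul_sub]; abel
      rw [e2, e1, add_comm])
  -- the left kernel
  have h2 : Nat.card (X ⊓ E : Subgroup G) ≤
      Nat.card {a : X // ∀ b, (if lft b • π (a : G) - π (a : G) = 0 then (1 : ℤˣ) else -1) = 1} := by
    refine Nat.card_le_card_of_injective
      (fun a : (X ⊓ E : Subgroup G) => ⟨⟨a.1, a.2.1⟩, fun b => ?_⟩) ?_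
    · refine if_pos ?_
      have h3 := (mem_ee.1 a.2.2).2 b b.2
      change lft b • π (a : G) - π (a : G) = 0
      rw [← s.md.smul (lft b) a a.2.1.1, sub_eq_zero]
      congr 1
      exact NO3S.Dual.conj_eq_of_comm h3.symm
    · intro a a' e
      exact Subtype.ext (congrArg (fun t => (t.1 : G)) e)
  -- the right kernel
  have h3 : Nat.card {b : ws V q // ∀ a : X,
      (if lft b • π (a : G) - π (a : G) = 0 then (1 : ℤˣ) else -1) = 1} ≤ Nat.card E' := by
    refine Nat.card_le_card_of_injective (fun b => ⟨b.1, ?_⟩) ?_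
    · by_contra hb
      have hbc : ((lft b.1 : centralizer ({p} : Set G)) : G) ∉ centralizer (ws V p : Set G) := by
        intro h4
        apply hb
        rw [hE', mem_ee]
        exact ⟨b.1.2, fun a ha => (mem_centralizer_iff.1 h4 a ha).symm⟩
      obtain ⟨h, i, hcol, hxp, hmv⟩ := s.exists_mover (f := lft b.1) b.1.2 hbc
      have hxw : ((h : G) * p₁ * (h : G)⁻¹) ∈ ws V p := s.fr.mem_ws_of_col hcol
      obtain ⟨h5, h6⟩ := s.one_one b.1.2 i rfl hcol hxp hmv (fun hD => hcon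
        ⟨_, hcol.symm, (b.1 : G), b.1.2, fun e => hmv (by
          rw [← s.md.smul (lft b.1) _ hxw]
          congr 1), hD⟩)
      have h7 : ((h : G) * p₁ * (h : G)⁻¹) ∈ X := ⟨hxw, h6⟩
      have h8 := b.2 ⟨_, h7⟩
      have h9 : ¬ (lft b.1 • π ((h : G) * p₁ * (h : G)⁻¹) - π ((h : G) * p₁ * (h : G)⁻¹) = 0) := by
        rw [h5, add_sub_cancel_left]
        exact hl0
      rw [if_neg h9] at h8
      exact absurd h8 (by decide)
    · intro b b' e
      have e1 : ((b.1 : ws V q) : G) = b'.1 := congrArg (fun t : E' => (t : G)) e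
      exact Subtype.ext (Subtype.ext e1)
  -- the count
  have hcX : Nat.card (X ⊓ E : Subgroup G) * E.relIndex X = Nat.card X := by
    rw [← inf_relIndex_left]
    exact NO3S.Dual.card_mul_relIndex_of_le inf_le_left
  have hcW : Nat.card E' * E'.relIndex (ws V q) = Nat.card (ws V q) :=
    NO3S.Dual.card_mul_relIndex_of_le hE'w
  have hr : E.relIndex (ws V p) ≤ E.relIndex X := by
    rw [hE, hex.card, ← hE']
    have h4 : Nat.card (X ⊓ E : Subgroup G) * Nat.card E' * E'.relIndex (ws V q) ≤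
        Nat.card (X ⊓ E : Subgroup G) * Nat.card E' * E.relIndex X := by
      calc Nat.card (X ⊓ E : Subgroup G) * Nat.card E' * E'.relIndex (ws V q) =
          Nat.card (X ⊓ E : Subgroup G) * Nat.card (ws V q) := by rw [mul_assoc, hcW]
        _ ≤ _ * Nat.card (ws V q) := Nat.mul_le_mul_right _ h2
        _ = Nat.card X * _ := h1
        _ ≤ Nat.card X * Nat.card E' := Nat.mul_le_mul_left _ h3
        _ = Nat.card (X ⊓ E : Subgroup G) * Nat.card E' * E.relIndex X := by rw [← hcX]; ring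
    exact Nat.le_of_mul_le_mul_left h4 (Nat.mul_pos Nat.card_pos Nat.card_pos)
  have hXE : ws V p ≤ X ⊔ E := by
    rw [← relIndex_eq_one]
    have e1 := relIndex_mul_relIndex E (X ⊔ E) (ws V p) le_sup_right (sup_le hXw hEw)
    have e2 : E.relIndex X ≤ E.relIndex (X ⊔ E) :=
      relIndex_le_of_le_right le_sup_left index_ne_zero_of_finite
    have e3 : E.relIndex (X ⊔ E) ≠ 0 := index_ne_zero_of_finite
    have e4 : (X ⊔ E).relIndex (ws V p) ≠ 0 := index_ne_zero_of_finite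
    have e5 : E.relIndex (X ⊔ E) * (X ⊔ E).relIndex (ws V p) ≤ E.relIndex (X ⊔ E) * 1 := by
      rw [e1, mul_one]; omega
    have e6 := Nat.le_of_mul_le_mul_left e5 (Nat.pos_of_ne_zero e3)
    omega
  -- `[W_p, W_q] ≤ ⟨e⟩`
  have hall : ∀ a ∈ ws V p, ∀ b : ws V q,
      lft b • π a - π a = 0 ∨ lft b • π a - π a = π p₁ := by
    intro a ha b
    obtain ⟨c, hc, e, he, rfl⟩ := NO3S.Dual.mem_sup_of_comm (s.fr.ws_comm s.hp) hXw hEw (hXE ha)
    have h4 : lft b • π e - π e = 0 := by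
      rw [← s.md.smul (lft b) e (hEw he), sub_eq_zero]
      congr 1
      exact NO3S.Dual.conj_eq_of_comm ((mem_ee.1 he).2 b b.2).symm
    have h5 : lft b • π (c * e) - π (c * e) = lft b • π c - π c := by
      rw [s.md.map_mul c hc.1 e (hEw he), smul_add]
      calc lft b • π c + lft b • π e - (π c + π e) = (lft b • π c - π c) + (lft b • π e - π e) := by abel
        _ = lft b • π c - π c := by rw [h4, add_zero]
    rw [h5]
    exact hδ c b hc
  obtain ⟨a, ha, rfl⟩ := s.md.surj v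
  have h5 : lft ⟨b, hb⟩ = b := rfl
  rcases hall a ha ⟨b, hb⟩ with e | e <;> rw [h5] at e
  · left
    rw [sub_eq_zero.1 e]
  · right
    rw [sub_eq_iff_eq_add.1 e]
    abel

end PreL

section main

variable {T V : Subgroup G} {z p q : G} {m n : ℕ}

/-- **(6.2)** : an exact critical pair with `x^b ≠ p x`, `[W_p, W_q] ≤ W_{p₁}` (`p₁` the second point of a
geodesic), has a special point (`N_p` arbitrary). -/
theorem exists_sp_of_le [Finite G] (h : Fr T V z) (hc : Cr V (m + 3) p q) (hex : Exact V p q)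
    (nm : ∀ x, Col V x p → x ≠ p → ∀ b ∈ ws V q, b * x * b⁻¹ ≠ p * x) {p₁ g : G} (h1 : Pth V (m + 2) q p₁)
    (h2 : p₁ ∈ cj g V) (h3 : p ∈ cj g V) (h4 : p₁ ≠ 1) (h5 : p ≠ 1) (h6 : p₁ ≠ p)
    (hle : ∀ a ∈ ws V p, ∀ b ∈ ws V q, a * b * a⁻¹ * b⁻¹ ∈ ws V p₁) : ∃ x, Sp V p q x := by
  by_contra hcon
  have hp : Col V p p := hc.path.left
  have hq : Col V q q := hc.path.right
  have hmp := md_MM h hp
  have hmq := md_MM h hq
  have s : PreL T V z m p q p₁ (pim V p) := ⟨h, hc, Col.of_mem h3 h2 h5 h4, h6, h1.symm, hex, nm, hmp, hle⟩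
  have hpp := h.pt_sq hp
  have h11 := h.pt_sq s.col.right
  have hpp1 : p * p₁ = p₁ * p := h.col_comm s.col
  -- a point moved by `W_q`
  obtain ⟨x, b₀, hx, hb₀, hxb⟩ : ∃ x b, Col V p x ∧ b ∈ ws V q ∧ b * x * b⁻¹ ≠ x := by
    by_contra hcon
    push Not at hcon
    apply hc.ne
    have h7 : ws V p ≤ centralizer (ws V q : Set G) := by
      refine ws_le fun L hL a ha => ?_
      obtain ⟨⟨k, rfl⟩, hpL⟩ := hL
      rw [mem_centralizer_iff]
      intro b hb
      by_cases ha1 : a = 1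
      · rw [ha1]; simp
      exact NO3S.Dual.comm_of_conj_eq (hcon a b (Col.of_mem hpL ha h5 ha1) hb)
    exact fun a ha b hb => (mem_centralizer_iff.1 (h7 ha) b hb).symm
  have hxw : x ∈ ws V p := h.mem_ws_of_col hx
  have hxp : x ≠ p := by
    intro e
    apply hxb
    rw [e]
    exact NO3S.Dual.conj_eq_of_comm (mem_centralizer_singleton_iff.1 (s.wq_le hb₀))
  have hxx := h.pt_sq hx.right
  -- `[x, W_q] ≤ {1, p₁, p p₁}`
  have key : ∀ b ∈ ws V q, b * x * b⁻¹ = x ∨ b * x * b⁻¹ = p₁ * x ∨ b * x * b⁻¹ = p * p₁ * x := by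
    intro b hb
    have hbc := s.wq_le hb
    have hw : b * x * b⁻¹ ∈ ws V p := conj_mem_ws_of_mem hbc hxw
    have e1 : pim V p (b * x * b⁻¹) = (⟨b, hbc⟩ : centralizer ({p} : Set G)) • pim V p x := hmp.smul ⟨b, hbc⟩ x hxw
    rcases s.all hcon (pim V p x) (b := ⟨b, hbc⟩) hb with e | e
    · rw [e] at e1
      rcases (hmp.eq_iff h hp hw hxw).1 e1 with e2 | e2
      · exact Or.inl e2
      · exact absurd e2 (nm x hx.symm hxp b hb)
    · rw [e, add_comm, ← hmp.map_mul _ s.p1_mem _ hxw] at e1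
      rcases (hmp.eq_iff h hp hw (mul_mem s.p1_mem hxw)).1 e1 with e2 | e2
      · exact Or.inr (Or.inl e2)
      · exact Or.inr (Or.inr (by rw [e2, mul_assoc]))
  -- `W_q` centralises `p`, `p₁`
  have hbp : ∀ b ∈ ws V q, b * p = p * b := fun b hb => mem_centralizer_singleton_iff.1 (s.wq_le hb)
  have hbp1 : ∀ b ∈ ws V q, b * p₁ = p₁ * b := fun b hb => (s.com1 _ s.p1_mem' b hb).symm
  -- the centre
  obtain ⟨e, he, hcol, hpe, hee, hall⟩ : ∃ e : G, b₀ * x * b₀⁻¹ = e * x ∧ Col V p e ∧ pim V p e = pim V p p₁ ∧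
      (∀ b ∈ ws V q, b * e = e * b) ∧ ∀ b ∈ ws V q, b * x * b⁻¹ = x ∨ b * x * b⁻¹ = e * x := by
    have hne : p * p₁ ≠ 1 := by
      intro e
      apply h6
      calc p₁ = p * p * p₁ := by rw [hpp, one_mul]
        _ = p := by rw [mul_assoc, e, mul_one]
    have hbb : ∀ b ∈ ws V q, ∀ e e' : G, b₀ * x * b₀⁻¹ = e * x → b * x * b⁻¹ = e' * x → b * e = e * b →
        e * e' ≠ p := by
      intro b hb e e' h7 h8 h9 h10
      apply nm x hx.symm hxp _ (mul_mem hb hb₀)
      calc b * b₀ * x * (b * b₀)⁻¹ = b * (b₀ * x * b₀⁻¹) * b⁻¹ := by group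
        _ = (b * e) * x * b⁻¹ := by rw [h7]; group
        _ = e * (b * x * b⁻¹) := by rw [h9]; group
        _ = p * x := by rw [h8, ← mul_assoc, h10]
    rcases key b₀ hb₀ with e1 | e1 | e1
    · exact absurd e1 hxb
    · refine ⟨p₁, e1, s.col, rfl, hbp1, fun b hb => ?_⟩
      rcases key b hb with e2 | e2 | e2
      · exact Or.inl e2
      · exact Or.inr e2
      · refine absurd ?_ (hbb b hb p₁ (p * p₁) e1 e2 (hbp1 b hb))
        rw [hpp1, ← mul_assoc, h11, one_mul]
    · refine ⟨p * p₁, e1, Col.of_mem h3 (mul_mem h3 h2) h5 hne, ?_, ?_, fun b hb => ?_⟩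
      · exact (hmp.eq_iff h hp (mul_mem (h.mem_ws_self hp) s.p1_mem) s.p1_mem).2 (Or.inr rfl)
      · intro b hb
        rw [← mul_assoc, hbp b hb, mul_assoc, hbp1 b hb, mul_assoc]
      · rcases key b hb with e2 | e2 | e2
        · exact Or.inl e2
        · refine absurd ?_ (hbb b hb (p * p₁) p₁ e1 e2 ?_)
          · rw [mul_assoc, h11, mul_one]
          · rw [← mul_assoc, hbp b hb, mul_assoc, hbp1 b hb, mul_assoc]
        · exact Or.inr e2
  have he1 : e ≠ 1 := hcol.right.ne_one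
  have hepw : e ∈ ws V p := h.mem_ws_of_col hcol
  have hesq : e * e = 1 := h.pt_sq hcol.right
  have hep : e ≠ p := by
    intro e2
    exact nm x hx.symm hxp b₀ hb₀ (by rw [he, e2])
  have heqw : e ∈ ws V q := by
    have h7 := inv_mem (hc.comm_mem_right h hxw hb₀)
    have e2 : (x * b₀ * x⁻¹ * b₀⁻¹)⁻¹ = b₀ * x * b₀⁻¹ * x⁻¹ := by group
    rwa [e2, he, mul_inv_cancel_right] at h7
  have heq : e ≠ q := by
    intro e2
    have h7 : Pth V 1 p q := by rw [← e2]; exact Pth.of_col hcol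
    exact hc.ne (hc.min 1 (by omega) _ _ h7)
  -- `x` is a transvection of `M_q`
  have hs := tr_of_comm hmq (hc.cent h hxw) heqw he1 heq (fun b hb => by
    rcases hall b hb with e2 | e2
    · left
      exact NO3S.Dual.conj_eq_of_comm (NO3S.Dual.comm_of_conj_eq e2).symm
    · right
      have h7 : b * x = e * x * b := by rw [← e2]; group
      calc x * b * x⁻¹ = e * (e * x * b) * x⁻¹ := by
            rw [mul_assoc e x b, ← mul_assoc e e, hesq, one_mul]
        _ = e * b := by rw [← h7]; group) ⟨b₀, hb₀, fun e2 => hxb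
          (NO3S.Dual.conj_eq_of_comm (NO3S.Dual.comm_of_conj_eq e2).symm)⟩
  -- `b₀` is a transvection of `M_p`
  have ht : Tr (H := centralizer ({p} : Set G)) (pim V p e) ⟨b₀, s.wq_le hb₀⟩ :=
    ⟨fun v => by rw [hpe]; exact s.all hcon v hb₀, pim V p x, by
      rw [← hmp.smul ⟨b₀, s.wq_le hb₀⟩ x hxw]
      change pim V p (b₀ * x * b₀⁻¹) ≠ _
      intro e2
      rcases (hmp.eq_iff h hp (conj_mem_ws_of_mem (s.wq_le hb₀) hxw) hxw).1 e2 with e3 | e3
      · exact hxb e3
      · exact nm x hx.symm hxp b₀ hb₀ e3⟩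
  obtain ⟨k, hk⟩ := h.exists_conj hp hq
  have ht' := Tr.transport h hp hmp hmq hk hepw ht
  have hcol' : Col V q (k * e * k⁻¹) := by
    have := hcol.conj k
    rwa [hk] at this
  have hne' : k * e * k⁻¹ ≠ q := by
    intro e1
    rw [← hk] at e1
    exact hep (mul_left_cancel (mul_right_cancel e1))
  have hqe := col_of_tr h hmq hcol' hne' ht' heqw he1 heq hs
  have hpath : Pth V 2 p q := (Pth.of_col hcol).step hqe.symm
  exact hc.ne (hc.min 2 (by omega) p q hpath)

/-- **no (D)-pair** : without goal pairs no critical pair has a special point (#18157 (6.1), (6.2), `N_p` arbitrary). -/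
theorem no_sp [Finite G] (h : Fr T V z)
    (hNO : LemmaM.NoOver (NO3S.TwoFar.inc (V := V)) NO3S.TwoFar.RR NO3S.TwoFar.WS NO3S.TwoFar.VL)
    (hG : ¬ ∃ p x q, Goal V (m + 3) p x q) (hc : Cr V (m + 3) p q) {x : G} : ¬ Sp V p q x := by
  intro hx
  obtain ⟨hE, hE'⟩ := (exact_or_goal h (by omega) hNO).resolve_left hG
  obtain ⟨r, g, h1, h2, h3, h4, h5, h6, -⟩ := Cr.last (n := m + 2) h hc
  have ha := MPlus.le_of_beta_one h (by omega) hNO hc (r := r) h1 (Col.of_mem h2 h3 h4 h5)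
    (fun x _ hx => hG ⟨_, _, _, hx⟩) ⟨x, hx⟩
  have hle : ∀ a ∈ ws V q, ∀ b ∈ ws V p, a * b * a⁻¹ * b⁻¹ ∈ ws V r := by
    intro a ha' b hb'
    rw [comm_inv_eq a b]
    exact (ws V r).inv_mem (ha.2 b hb' a ha')
  obtain ⟨x', hx'⟩ := exists_sp_of_le h hc.symm (hE q p hc.symm) (hE' q p hc.symm) h1 h2 h3 h4 h5 h6 hle
  obtain ⟨r', g', h1', h2', h3', h4', h5', h6', -⟩ := Cr.last (n := m + 2) h hc.symm
  have hb := MPlus.le_of_beta_one h (by omega) hNO hc.symm (r := r') h1' (Col.of_mem h2' h3' h4' h5')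
    (fun x _ hx => hG ⟨_, _, _, hx⟩) ⟨x', hx'⟩
  refine hG ⟨q, r, p, hc.symm, Col.of_mem h3 h2 h5 h4, h6, h1.symm, hb.1, ha.1, fun a ha' b hb' => ⟨?_, hle a ha' b hb'⟩⟩
  exact hc.symm.comm_mem_left h ha' hb'

/-- **the world of #21024, `n ≥ 3`** : all critical pairs are exact, `x^b ≠ p x`, no (D)-pair. -/
theorem world [Finite G] (hML : ML.Final.MLK.{u, u}) (h : Fr T V z)
    (hK : ∀ p, Col V p p → IsKGroup (centralizer ({p} : Set G))) :
    (∀ p q, Cr V (m + 3) p q → Exact V p q) ∧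
      (∀ p q, Cr V (m + 3) p q → ∀ x, Col V x p → x ≠ p → ∀ b ∈ ws V q, b * x * b⁻¹ ≠ p * x) ∧
        ∀ p q, Cr V (m + 3) p q → ∀ x, Col V x p → ∀ f ∈ ws V q, f * x * f⁻¹ ≠ x →
          ¬ ws V x ⊓ ws V (f * x * f⁻¹) ≤ ws V p := by
  have hNO := NO3S.TwoFar.noOver_of_mlk hML h hK
  have hG : ¬ ∃ p x q, Goal V (m + 3) p x q := by
    rintro ⟨p, x, q, hg⟩
    exact no_goal_of_mlk hML h hNO hK hg
  obtain ⟨hE, hE'⟩ := (exact_or_goal h (by omega) hNO).resolve_left hG
  exact ⟨hE, hE', fun p q hc x hx f hf hfx hD => no_sp h hNO hG hc (x := x) ⟨hx, f, hf, hfx, hD⟩⟩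

end main

end Cfsg.Agent.Omega.NO3S.WZero

end

end

-- merged: Cfsg.Agent.Mrg.Omega.NO3S.TwoFar.Node
section

/-!
# The socket `TwoFar` of the leaf NO-3S (`q = 2`, critical distance `n ≥ 3`)

* `NTriv K` : the open input, `N_z = ⟨z⟩`, i.e. `C_{W_z}(K_z) = ⟨z⟩` (LEMMA FIX / THEOREM N);
* `twoFar_of` : `TwoFar K` from (ML), (F1) and `NTriv K` (THEOREM S #17490 and THEOREM LL #18157).
-/

set_option autoImplicit false

namespace Cfsg.Agent.Omega.NO3S.TwoFar

open Subgroup Cfsg Cfsg.Agent.ZN Cfsg.Agent.MinSimple.Geo Cfsg.Agent.Omega.CaseL Cfsg.Agent.Omega.NO3S.TwoOne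
open Cfsg.Agent.Omega.NO3S Cfsg.Agent.Omega.NO3S.Pt Cfsg.Agent.Omega.Frame
open Cfsg.Agent.Omega.NO3S.Dual (nn mem_nn)
open Cfsg.Agent.Omega.NOThree (LL.exists_goal LL.no_goal_of_mlk)

universe u

variable (K : Cls.{u})

/-- **`N_z = ⟨z⟩`**: `C_{W_z}(K_z) = ⟨z⟩` if the critical distance is at least 3. Paper: LEMMA FIX #19497 (helper77),
THEOREM N #19593 (helper734), #19410 (helper251), #19454 (helper937), #19795 (helper24) if `J(S) ≰ O₂(P)`. -/
def NTriv : Prop :=
  ∀ (G : Type u) [Group G] [Finite G], K G → ∀ (S : Sylow 2 G) (P : Subgroup G), Hyp S P →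
    Nat.card (zl (S : Subgroup G) P) = 4 → ∀ z ∈ zc (S : Subgroup G), z ≠ 1 →
      Fr (S : Subgroup G) (zl (S : Subgroup G) P) z →
      ∀ (n : ℕ) (y : G), 3 ≤ n → CritP (S : Subgroup G) P n 1 y →
        Cr (zl (S : Subgroup G) P) n z (y * z * y⁻¹) →
        nn (ws (zl (S : Subgroup G) P) z) (kq (zl (S : Subgroup G) P) z) ≤ zpowers z ∨ IsKnownSimple' G

variable {K}

section

variable {G : Type u} [Group G] {T V : Subgroup G} {z : G}

/-- `N_p = ⟨p⟩` at one point gives it at every point -/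
theorem nn_le_of_conj {p : G} (k : G) (hk : k * z * k⁻¹ = p)
    (hz : nn (ws V z) (kq V z) ≤ zpowers z) : nn (ws V p) (kq V p) ≤ zpowers p := by
  intro a ha
  rw [mem_nn] at ha
  have e1 : k⁻¹ * p * k = z := by rw [← hk]; group
  have h1 : k⁻¹ * a * k ∈ nn (ws V z) (kq V z) := by
    rw [mem_nn]
    constructor
    · have := conj_mem_ws k⁻¹ ha.1
      rwa [inv_inv, e1] at this
    · intro b hb
      have hb' : k * b * k⁻¹ ∈ kq V p := by
        have := conj_mem_kq k hb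
        rwa [hk] at this
      have h2 := ha.2 _ hb'
      calc b * (k⁻¹ * a * k) = k⁻¹ * ((k * b * k⁻¹) * a) * k := by group
        _ = k⁻¹ * (a * (k * b * k⁻¹)) * k := by rw [h2]
        _ = k⁻¹ * a * k * b := by group
  obtain ⟨i, hi⟩ := mem_zpowers_iff.1 (hz h1)
  refine mem_zpowers_iff.2 ⟨i, ?_⟩
  have e2 : p ^ i = k * z ^ i * k⁻¹ := by rw [← hk, conj_zpow]
  change z ^ i = k⁻¹ * a * k at hi
  rw [e2, hi]; group

theorem isKGroup_centralizer_pt [Finite G] {S : Sylow 2 G} {P : Subgroup G} (h : Hyp S P) {p : G} (hp : p ≠ 1) :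
    IsKGroup (centralizer ({p} : Set G)) := by
  refine h.ctx.kproper _ fun htop => ?_
  have := h.ctx.simple
  have hc : p ∈ center G := by
    rw [mem_center_iff]
    intro g
    have hg : g ∈ centralizer ({p} : Set G) := by rw [htop]; exact mem_top g
    exact mem_centralizer_singleton_iff.1 hg
  rcases (inferInstance : (center G).Normal).eq_bot_or_eq_top with h1 | h1
  · rw [h1, mem_bot] at hc
    exact hp hc
  · apply h.ctx.nonComm
    refine ⟨⟨fun a b => ?_⟩⟩
    have hb : b ∈ center G := by rw [h1]; exact mem_top b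
    exact mem_center_iff.1 hb a

/-- **no critical pair at distance `n ≥ 3`** if `N_z = ⟨z⟩` -/
theorem far_false [Finite G] (hML : ML.Final.MLK.{u, u}) (h : Fr T V z)
    (hK : ∀ p, Col V p p → IsKGroup (centralizer ({p} : Set G)))
    (hN : nn (ws V z) (kq V z) ≤ zpowers z) {n : ℕ} (hn : 3 ≤ n) {p q : G} (hc : Cr V n p q) : False := by
  obtain ⟨m, rfl⟩ := Nat.exists_eq_add_of_le' hn
  have hNO := noOver_of_mlk hML h hK
  obtain ⟨p', x, q', hg⟩ := LL.exists_goal (m := m) h hNO (fun p hp => by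
    obtain ⟨k, hk⟩ := h.isPt hp
    exact nn_le_of_conj k hk hN) ⟨p, q, hc⟩
  exact LL.no_goal_of_mlk hML h hNO hK hg

end

/-- **The socket `TwoFar`** from (ML), (F1) and `N_z = ⟨z⟩`. -/
theorem twoFar_of (hML : ML.Final.MLK.{u, u}) (h1 : TwoOne.FOneP K) (h2 : NTriv K) : NO3S.TwoFar K := by
  intro G _ _ hK S P h hc n y hn hy
  obtain ⟨z, hz1⟩ := Subgroup.ne_bot_iff_exists_ne_one.1
    (MinSimple.Basic.zc_ne_bot S.isPGroup' (h.ctx.sylow_ne_bot S))
  have hz1' : (z : G) ≠ 1 := fun e => hz1 (Subtype.ext e)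
  rcases h1 G hK S P h hc z z.2 hz1' with hf | hk
  · have hfr := fr_four h hc z.2 hz1' hf
    have hcr := cr_of_crit h hc z.2 hz1' hfr hy
    rcases h2 G hK S P h hc z z.2 hz1' hfr n y hn hy hcr with hN | hk
    · exact (far_false hML hfr (fun p hp => isKGroup_centralizer_pt h hp.ne_one) hN hn hcr).elim
    · exact hk
  · exact hk

end Cfsg.Agent.Omega.NO3S.TwoFar

end
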